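import Groth.Agent.Lib.QuadGrp.Centre
import Mathlib.LinearAlgebra.Dimension.Constructions

/-!
# Infinitesimal isometries over the dual numbers

`GrothLib.QuadInf`: the isometries `1 + ε X_{a,b}` of the base change of a quadratic form to the dual
numbers, and what commuting with them means.
-/

set_option autoImplicit false

universe u v

namespace GrothLib.QuadInf

open QuadGrp TensorProduct DualNumber

section General

variable {A : Type u} [CommRing A] {M : Type v} [AddCommGroup M] [Module A M] (Q : QuadraticForm A M)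
  (e : A) (he : e * e = 0) (a b : M)

/-- `z ↦ B(a, z) b - B(b, z) a`. -/
noncomputable def X : M →ₗ[A] M :=
  (QuadraticMap.polarBilin Q a).smulRight b - (QuadraticMap.polarBilin Q b).smulRight a

theorem X_apply (z : M) : X Q a b z = QuadraticMap.polar Q a z • b - QuadraticMap.polar Q b z • a := rfl

/-- The infinitesimal isometry `1 + e X_{a,b}` (`e * e = 0`). -/
noncomputable def inf : M ≃ₗ[A] M :=
  LinearEquiv.ofLinear (LinearMap.id + e • X Q a b) (LinearMap.id - e • X Q a b)
    (LinearMap.ext fun z => by
      simp only [LinearMap.comp_apply, LinearMap.add_apply, LinearMap.sub_apply, LinearMap.smul_apply,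
        LinearMap.id_apply, map_add, map_sub, map_smul, smul_add, smul_sub, ← mul_smul, he, zero_smul]
      abel)
    (LinearMap.ext fun z => by
      simp only [LinearMap.comp_apply, LinearMap.add_apply, LinearMap.sub_apply, LinearMap.smul_apply,
        LinearMap.id_apply, map_add, map_sub, map_smul, smul_add, smul_sub, ← mul_smul, he, zero_smul]
      abel)

theorem inf_apply (z : M) : inf Q e he a b z = z + e • X Q a b z := rfl

theorem inf_mem_O : inf Q e he a b ∈ O Q := by
  intro z
  rw [inf_apply, QuadraticMap.map_add (⇑Q), QuadraticMap.map_smul, he, zero_smul, add_zero,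
    QuadraticMap.polar_smul_right, X_apply, QuadraticMap.polar_sub_right,
    QuadraticMap.polar_smul_right, QuadraticMap.polar_smul_right, smul_eq_mul, smul_eq_mul,
    smul_eq_mul, QuadraticMap.polar_comm Q z b, QuadraticMap.polar_comm Q z a,
    mul_comm (QuadraticMap.polar Q a z), sub_self, mul_zero, add_zero]

theorem inf_det [Module.Free A M] [Module.Finite A M] :
    LinearEquiv.det (inf Q e he a b) = 1 := by
  classical
  let bs := Module.Free.chooseBasis A M
  apply Units.ext
  rw [LinearEquiv.coe_det, Units.val_one, ← LinearMap.det_toMatrix bs,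
    show (inf Q e he a b : M →ₗ[A] M) = LinearMap.id + e • X Q a b from rfl,
    map_add, map_smul, LinearMap.toMatrix_id, Matrix.det_one_add_smul, ← LinearMap.trace_eq_matrix_trace,
    sq, he, mul_zero, add_zero, X, map_sub, LinearMap.trace_smulRight, LinearMap.trace_smulRight,
    QuadraticMap.polarBilin_apply_apply, QuadraticMap.polarBilin_apply_apply,
    QuadraticMap.polar_comm Q a b, sub_self, zero_mul, add_zero]

open CliffordAlgebra in
/-- `ι z * (ι a * ι b) - (ι a * ι b) * ι z = ι (X z)`. -/
theorem bracket (z : M) :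
    ι Q z * (ι Q a * ι Q b) - (ι Q a * ι Q b) * ι Q z = ι Q (X Q a b z) := by
  have h1 : ι Q z * ι Q a = algebraMap A _ (QuadraticMap.polar Q z a) - ι Q a * ι Q z :=
    eq_sub_of_add_eq (ι_mul_ι_add_swap z a)
  have h2 : ι Q z * ι Q b = algebraMap A _ (QuadraticMap.polar Q z b) - ι Q b * ι Q z :=
    eq_sub_of_add_eq (ι_mul_ι_add_swap z b)
  calc ι Q z * (ι Q a * ι Q b) - (ι Q a * ι Q b) * ι Q z
      = (algebraMap A _ (QuadraticMap.polar Q z a) - ι Q a * ι Q z) * ι Q b
          - (ι Q a * ι Q b) * ι Q z := by rw [← mul_assoc, h1]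
    _ = algebraMap A _ (QuadraticMap.polar Q z a) * ι Q b - ι Q a * (ι Q z * ι Q b)
          - (ι Q a * ι Q b) * ι Q z := by rw [sub_mul, mul_assoc (ι Q a) (ι Q z)]
    _ = algebraMap A _ (QuadraticMap.polar Q z a) * ι Q b
          - ι Q a * algebraMap A _ (QuadraticMap.polar Q z b) := by
        rw [h2, mul_sub, mul_assoc (ι Q a) (ι Q b) (ι Q z)]; abel
    _ = ι Q (X Q a b z) := by
        rw [← Algebra.commutes (QuadraticMap.polar Q z b) (ι Q a), X_apply, map_sub, map_smul, map_smul,
          Algebra.smul_def, Algebra.smul_def, QuadraticMap.polar_comm Q a z, QuadraticMap.polar_comm Q b z]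

open CliffordAlgebra in
theorem inf_isDicksonTrivial : IsDicksonTrivial Q (inf Q e he a b) (inf_mem_O Q e he a b) := by
  set w : CliffordAlgebra Q := ι Q a * ι Q b with hw
  set u : CliffordAlgebra Q := 1 - e • w
  set u' : CliffordAlgebra Q := 1 + e • w
  have he' : (e • w) * (e • w) = 0 := by rw [smul_mul_smul_comm, he, zero_smul]
  have huu' : u * u' = 1 := by
    simp only [u, u', sub_mul, mul_add, one_mul, mul_one, he']; abel
  have hu'u : u' * u = 1 := by
    simp only [u, u', add_mul, mul_sub, one_mul, mul_one, he']; abel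
  have hconj : ∀ y, CliffordAlgebra.map (isometryOfMem Q _ (inf_mem_O Q e he a b)) y = u * y * u' := by
    intro y
    induction y using CliffordAlgebra.induction with
    | algebraMap r =>
      rw [AlgHom.commutes, ← Algebra.commutes, mul_assoc, huu', mul_one]
    | ι z =>
      rw [map_apply_ι, isometryOfMem_apply, inf_apply, map_add, map_smul, ← bracket]
      simp only [u, u', ← hw, sub_mul, mul_add, one_mul, mul_one, smul_sub, smul_mul_assoc,
        mul_smul_comm, smul_add, ← mul_smul, he, zero_smul]
      abel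
    | mul x y hx hy =>
      rw [map_mul, hx, hy]
      calc u * x * u' * (u * y * u') = u * x * (u' * u) * y * u' := by simp only [mul_assoc]
        _ = u * (x * y) * u' := by rw [hu'u, mul_one]; simp only [mul_assoc]
    | add x y hx hy => rw [map_add, hx, hy, ← add_mul, ← mul_add]
  intro z hz
  rw [hconj]
  have hu : u ∈ CliffordAlgebra.even Q := by
    refine sub_mem (one_mem _) (Subalgebra.smul_mem _ ?_ e)
    exact ι_mul_ι_mem_evenOdd_zero Q a b
  have := congrArg Subtype.val (Subalgebra.mem_center_iff.mp hz ⟨u, hu⟩)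
  change u * (z : CliffordAlgebra Q) = (z : CliffordAlgebra Q) * u at this
  rw [this, mul_assoc, huu', mul_one]

end General

section BaseChange

variable {R : Type u} [CommRing R] {M : Type v} [AddCommGroup M] [Module R M] [Module.Free R M]
  (Q : QuadraticForm R M)

theorem baseChange_mem (A : Type u) [CommRing A] [Algebra R A] {h : (A ⊗[R] M) ≃ₗ[A] (A ⊗[R] M)}
    (hh : h ∈ O (baseChangeForm A Q)) : h ∈ orth Q A :=
  fun z => (AlgebraTensorModule.rid R A A).injective (hh z)

theorem baseChangeForm_tmul (A : Type u) [CommRing A] [Algebra R A] (m : M) :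
    baseChangeForm A Q ((1 : A) ⊗ₜ[R] m) = algebraMap R A (Q m) := by
  rw [baseChangeForm, LinearMap.compQuadraticMap_apply, baseChange_tmul, one_mul]
  simp [Algebra.smul_def]

theorem polar_baseChangeForm (A : Type u) [CommRing A] [Algebra R A] (m m' : M) :
    QuadraticMap.polar (baseChangeForm A Q) ((1 : A) ⊗ₜ[R] m) (1 ⊗ₜ[R] m') =
      algebraMap R A (QuadraticMap.polar Q m m') := by
  simp only [QuadraticMap.polar, ← tmul_add, baseChangeForm_tmul, map_sub]

/-- `1 + ε X_{a,b}` over the dual numbers. -/
noncomputable def infDual (a b : M) : (R[ε] ⊗[R] M) ≃ₗ[R[ε]] (R[ε] ⊗[R] M) :=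
  inf (baseChangeForm R[ε] Q) ε eps_mul_eps (1 ⊗ₜ a) (1 ⊗ₜ b)

theorem infDual_mem_orth (a b : M) : infDual Q a b ∈ orth Q R[ε] :=
  baseChange_mem Q _ (inf_mem_O _ _ _ _ _)

theorem infDual_mem_sorth' [Module.Finite R M] (a b : M) : infDual Q a b ∈ sorth' Q R[ε] :=
  ⟨infDual_mem_orth Q a b, inf_det _ _ _ _ _⟩

theorem infDual_mem_sorth [Module.Finite R M] (heven : Even (Module.finrank R M)) (a b : M) :
    infDual Q a b ∈ sorth Q R[ε] := by
  rcases subsingleton_or_nontrivial R with h | h
  · have : Subsingleton (R[ε] ⊗[R] M) := Module.subsingleton R _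
    rw [show infDual Q a b = 1 from LinearEquiv.ext fun _ => Subsingleton.elim _ _]
    exact one_mem _
  rw [sorth, SO, if_pos (by rwa [Module.finrank_baseChange])]
  exact ⟨_, inf_isDicksonTrivial _ _ _ _ _⟩

theorem infDual_tmul (a b y : M) :
    infDual Q a b (1 ⊗ₜ y) = 1 ⊗ₜ y +
      (ε : R[ε]) ⊗ₜ (QuadraticMap.polar Q a y • b - QuadraticMap.polar Q b y • a) := by
  rw [infDual, inf_apply, X_apply, polar_baseChangeForm, polar_baseChangeForm, algebraMap_smul,
    algebraMap_smul, ← tmul_smul, ← tmul_smul, ← tmul_sub, smul_tmul', smul_eq_mul, mul_one]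

/-- The coefficient of `ε`. -/
noncomputable def snd' : (R[ε] ⊗[R] M) →ₗ[R] M :=
  TensorProduct.lift ((LinearMap.lsmul R M).comp (TrivSqZeroExt.sndHom R R))

theorem snd'_tmul (r : R[ε]) (m : M) : snd' (r ⊗ₜ[R] m) = TrivSqZeroExt.snd r • m := rfl

/-- An endomorphism commuting with `1 + ε X_{a,b}` commutes with `X_{a,b}`. -/
theorem commute_of_commute (g : M ≃ₗ[R] M) (a b : M)
    (h : g.baseChange R R[ε] M M * infDual Q a b = infDual Q a b * g.baseChange R R[ε] M M) (y : M) :
    g (QuadraticMap.polar Q a y • b - QuadraticMap.polar Q b y • a) =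
      QuadraticMap.polar Q a (g y) • b - QuadraticMap.polar Q b (g y) • a := by
  have e := congrArg snd' (LinearEquiv.congr_fun h ((1 : R[ε]) ⊗ₜ y))
  simp only [LinearEquiv.mul_apply, LinearEquiv.baseChange_tmul, infDual_tmul, map_add, snd'_tmul,
    TrivSqZeroExt.snd_one, zero_smul, zero_add, snd_eps, one_smul] at e
  exact e

/-- A scalar commutes with everything over every algebra. -/
theorem commute_of_scalar (g : M ≃ₗ[R] M) (c : R) (hg : ∀ v, g v = c • v) (A : Type u) [CommRing A]
    [Algebra R A] (h : (A ⊗[R] M) ≃ₗ[A] (A ⊗[R] M)) :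
    g.baseChange R A M M * h = h * g.baseChange R A M M := by
  have e : ∀ z, g.baseChange R A M M z = algebraMap R A c • z := by
    intro z
    induction z using TensorProduct.induction_on with
    | zero => simp
    | tmul x y => rw [LinearEquiv.baseChange_tmul, hg, tmul_smul, algebraMap_smul]
    | add x y hx hy => rw [map_add, hx, hy, smul_add]
  ext z
  simp only [LinearEquiv.mul_apply, e, map_smul]

end BaseChange

end GrothLib.QuadInf
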