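import Groth.Prelude.Def_QuadGrp2

/-!
# An object represented on affine test schemes by an algebra is its spectrum

`GrothLib.RepIso.isIso_left`: a morphism `u : Spec C ⟶ G` over `Spec R` inducing bijections on all
affine points is an isomorphism.
-/

set_option autoImplicit false

universe u

namespace GrothLib.RepIso

open CategoryTheory AlgebraicGeometry Limits QuadGrp

variable {R C : Type u} [CommRing R] [CommRing C] [Algebra R C]
  {G : Over (Spec (CommRingCat.of R))} (u : specOver R C ⟶ G)

/-- An affine scheme over `Spec R` is `specOver` of its ring. -/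
theorem exists_algHom {A : Type u} [CommRing A] (φ : CommRingCat.of C ⟶ CommRingCat.of A)
    [Algebra R A] (h : Spec.map φ ≫ Spec.map (CommRingCat.ofHom (algebraMap R C)) =
      Spec.map (CommRingCat.ofHom (algebraMap R A))) :
    ∃ f : C →ₐ[R] A, (specOverMap R f).left = Spec.map φ := by
  rw [← Spec.map_comp] at h
  have h' := Spec.map_injective h
  exact ⟨⟨φ.hom, fun r => congr($(h') r)⟩, rfl⟩

variable (hbij : ∀ (A : Type u) [CommRing A] [Algebra R A],
  Function.Bijective fun φ : C →ₐ[R] A => specOverMap R φ ≫ u)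

include hbij

theorem cancel_affine (A : CommRingCat.{u}) (x y : Spec A ⟶ Spec (CommRingCat.of C))
    (h : x ≫ u.left = y ≫ u.left) : x = y := by
  obtain ⟨φx, rfl⟩ := Spec.map_surjective x
  obtain ⟨φy, rfl⟩ := Spec.map_surjective y
  letI := (CommRingCat.ofHom (algebraMap R C) ≫ φx).hom.toAlgebra
  have hw : u.left ≫ G.hom = Spec.map (CommRingCat.ofHom (algebraMap R C)) := Over.w u
  have h2 : Spec.map φy ≫ Spec.map (CommRingCat.ofHom (algebraMap R C)) =
      Spec.map φx ≫ Spec.map (CommRingCat.ofHom (algebraMap R C)) := by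
    rw [← hw]
    exact (Category.assoc _ _ _).symm.trans
      ((congrArg (· ≫ G.hom) h.symm).trans (Category.assoc _ _ _))
  obtain ⟨fx, hfx⟩ := exists_algHom (R := R) (A := A) φx (by rw [← Spec.map_comp]; rfl)
  obtain ⟨fy, hfy⟩ := exists_algHom (R := R) (A := A) φy (by rw [h2, ← Spec.map_comp]; rfl)
  have : fx = fy := (hbij A).1 <| Over.OverMorphism.ext <| by
    change (specOverMap R fx).left ≫ u.left = (specOverMap R fy).left ≫ u.left
    rw [hfx, hfy]
    exact h
  rw [← hfx, ← hfy, this]

theorem mono_left : Mono u.left := by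
  refine ⟨fun {T} a b hab => T.affineCover.hom_ext _ _ fun i => cancel_affine u hbij _ _ _ ?_⟩
  exact ((Category.assoc _ _ _).trans (congrArg (T.affineCover.f i ≫ ·) hab)).trans
    (Category.assoc _ _ _).symm

theorem exists_lift (A : CommRingCat.{u}) (j : Spec A ⟶ G.left) :
    ∃ s : Spec A ⟶ Spec (CommRingCat.of C), s ≫ u.left = j := by
  obtain ⟨ψ, hψ⟩ := Spec.map_surjective (j ≫ G.hom)
  letI := ψ.hom.toAlgebra
  let y : specOver R A ⟶ G := Over.homMk j hψ.symm
  obtain ⟨φ, hφ⟩ := (hbij A).2 y
  exact ⟨(specOverMap R φ).left, congr(($hφ).left)⟩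

theorem isIso_left : IsIso u.left := by
  have := mono_left u hbij
  choose s hs using fun i => exists_lift u hbij _ (G.left.affineCover.f i)
  let t : G.left ⟶ Spec (CommRingCat.of C) := G.left.affineCover.glueMorphisms s fun i j =>
    (cancel_mono u.left).mp <| by
      refine (Category.assoc _ _ _).trans (Eq.trans ?_ (Category.assoc _ _ _).symm)
      exact (congrArg (_ ≫ ·) (hs i)).trans (pullback.condition.trans (congrArg (_ ≫ ·) (hs j)).symm)
  have ht : t ≫ u.left = 𝟙 _ := G.left.affineCover.hom_ext _ _ fun i => by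
    refine ((Category.assoc _ _ _).symm.trans ?_).trans (Category.comp_id _).symm
    exact (congrArg (· ≫ u.left) (G.left.affineCover.ι_glueMorphisms s _ i)).trans (hs i)
  refine ⟨t, (cancel_mono u.left).mp ?_, ht⟩
  exact ((Category.assoc _ _ _).trans (congrArg (u.left ≫ ·) ht)).trans
    ((Category.comp_id _).trans (Category.id_comp _).symm)

end GrothLib.RepIso
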