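import Groth.Agent.Lib.QuadGrp.Table
import Groth.Agent.Lib.QuadGrp.RepIso
import Groth.Agent.Lib.QuadGrp.Infinitesimal
import Mathlib.AlgebraicGeometry.Morphisms.Smooth
import Mathlib.RingTheory.Smooth.Basic

/-!
# The coordinate ring of the orthogonal group of a quadratic form on `R^n`

`GrothLib.QuadCoord`: the algebra `Coord a s` representing the matrices preserving a coefficient
table (`s`: of determinant one), the criterion for its smoothness, and the comparison with the group
schemes pinned by `QuadGrp.LinRep`.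
-/

set_option autoImplicit false

universe u

namespace GrothLib.QuadCoord

open Matrix GrothLib.QuadHalfDisc GrothLib.QuadTable TensorProduct QuadGrp
open CategoryTheory (Over MorphismProperty)

variable {R : Type u} [CommRing R] {n : ℕ}

/-- The variables: the entries and the inverse of the determinant. -/
abbrev Poly (R : Type u) [CommRing R] (n : ℕ) := MvPolynomial (Option (Fin n × Fin n)) R

/-- The universal matrix. -/
noncomputable def genMat (R : Type u) [CommRing R] (n : ℕ) : Matrix (Fin n) (Fin n) (Poly R n) :=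
  of fun i j => MvPolynomial.X (some (i, j))

/-- The equations. -/
noncomputable def rels (a : Sym2 (Fin n) → R) (s : Bool) : Sym2 (Fin n) ⊕ Bool → Poly R n
  | .inl p => transform (fun q => algebraMap R (Poly R n) (a q)) (genMat R n) p - algebraMap R _ (a p)
  | .inr false => MvPolynomial.X none * (genMat R n).det - 1
  | .inr true => if s then (genMat R n).det - 1 else 0

/-- The coordinate ring. -/
abbrev Coord (a : Sym2 (Fin n) → R) (s : Bool) := Poly R n ⧸ Ideal.span (Set.range (rels a s))

variable (a : Sym2 (Fin n) → R) (s : Bool)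

/-- The points. -/
structure IsPoint (A : Type u) [CommRing A] [Algebra R A] (G : Matrix (Fin n) (Fin n) A) : Prop where
  isUnit_det : IsUnit G.det
  table : transform (fun q => algebraMap R A (a q)) G = fun q => algebraMap R A (a q)
  det_one : s = true → G.det = 1

variable {a s} {A B : Type u} [CommRing A] [Algebra R A] [CommRing B] [Algebra R B]

/-- The matrix of a point. -/
noncomputable def matOf (φ : Coord a s →ₐ[R] A) : Matrix (Fin n) (Fin n) A :=
  ((genMat R n).map (Ideal.Quotient.mk _)).map φ

theorem matOf_comp (φ : Coord a s →ₐ[R] A) (f : A →ₐ[R] B) : matOf (f.comp φ) = (matOf φ).map f := rfl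

theorem matOf_eq (φ : Coord a s →ₐ[R] A) :
    matOf φ = (genMat R n).map (φ.comp (Ideal.Quotient.mkₐ R _)).toRingHom := rfl

theorem apply_rels (φ : Coord a s →ₐ[R] A) (x : Sym2 (Fin n) ⊕ Bool) :
    (φ.comp (Ideal.Quotient.mkₐ R _)).toRingHom (rels a s x) = 0 := by
  change φ (Ideal.Quotient.mk _ (rels a s x)) = 0
  rw [Ideal.Quotient.eq_zero_iff_mem.2 (Ideal.subset_span (Set.mem_range_self x)), map_zero]

theorem matOf_inv (φ : Coord a s →ₐ[R] A) :
    φ (Ideal.Quotient.mk _ (MvPolynomial.X none)) * (matOf φ).det = 1 := by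
  have h := apply_rels φ (.inr false)
  rw [rels, map_sub, map_mul, map_one, RingHom.map_det, RingHom.mapMatrix_apply, ← matOf_eq,
    sub_eq_zero] at h
  exact h

theorem matOf_isPoint (φ : Coord a s →ₐ[R] A) : IsPoint a s A (matOf φ) where
  isUnit_det := IsUnit.of_mul_eq_one_right _ (matOf_inv φ)
  table := funext fun p => by
    have h := apply_rels φ (.inl p)
    rw [rels, map_sub, map_transform, ← matOf_eq, sub_eq_zero] at h
    simp only [AlgHom.toRingHom_eq_coe, RingHom.coe_coe, AlgHom.commutes] at h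
    exact h
  det_one := fun hs => by
    have h := apply_rels φ (.inr true)
    rw [rels, if_pos hs, map_sub, map_one, RingHom.map_det, RingHom.mapMatrix_apply, ← matOf_eq,
      sub_eq_zero] at h
    exact h

theorem matOf_injective : Function.Injective (matOf : (Coord a s →ₐ[R] A) → _) := fun φ ψ h => by
  refine Ideal.Quotient.algHom_ext _ (MvPolynomial.algHom_ext fun i => ?_)
  rcases i with _ | ⟨i, j⟩
  · have h1 := matOf_inv φ
    have h2 := matOf_inv ψ
    rw [← h] at h2
    exact left_inv_eq_right_inv h1 ((mul_comm _ _).trans h2)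
  · exact congrFun (congrFun h i) j

theorem exists_matOf {G : Matrix (Fin n) (Fin n) A} (hG : IsPoint a s A G) :
    ∃ φ : Coord a s →ₐ[R] A, matOf φ = G := by
  obtain ⟨v, hv⟩ := hG.isUnit_det.exists_left_inv
  let ev : Poly R n →ₐ[R] A := MvPolynomial.aeval fun i => i.elim v fun ij => G ij.1 ij.2
  have hev : (genMat R n).map ev.toRingHom = G := Matrix.ext fun i j => MvPolynomial.aeval_X _ _
  have hker : ∀ x ∈ Ideal.span (Set.range (rels a s)), ev x = 0 := by
    intro x hx
    refine (RingHom.mem_ker (f := ev.toRingHom)).1 (Ideal.span_le.2 ?_ hx)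
    rintro _ ⟨y, rfl⟩
    rw [SetLike.mem_coe, RingHom.mem_ker]
    rcases y with p | (_ | _)
    · rw [rels, map_sub, map_transform, hev, sub_eq_zero]
      simp only [AlgHom.toRingHom_eq_coe, RingHom.coe_coe, AlgHom.commutes]
      exact congrFun hG.table p
    · rw [rels, map_sub, map_mul, map_one, RingHom.map_det, RingHom.mapMatrix_apply, hev, sub_eq_zero]
      refine Eq.trans (congrArg (· * G.det) ?_) hv
      exact MvPolynomial.aeval_X _ _
    · rw [rels]
      split_ifs with hs
      · rw [map_sub, map_one, RingHom.map_det, RingHom.mapMatrix_apply, hev, sub_eq_zero]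
        exact hG.det_one hs
      · rw [map_zero]
  exact ⟨Ideal.Quotient.liftₐ _ ev hker, hev⟩

theorem finitePresentation : Algebra.FinitePresentation R (Coord a s) :=
  Algebra.FinitePresentation.quotient (Submodule.fg_span (Set.finite_range _))

theorem isPoint_map (φ : A →ₐ[R] B) {G : Matrix (Fin n) (Fin n) A} (hG : IsPoint a s A G) :
    IsPoint a s B (G.map φ) := by
  obtain ⟨x, rfl⟩ := exists_matOf hG
  rw [← matOf_comp]
  exact matOf_isPoint _

/-- The lifting criterion. -/
theorem formallySmooth (H : ∀ (B : Type u) [CommRing B] [Algebra R B] (I : Ideal B), I ^ 2 = ⊥ →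
      ∀ G : Matrix (Fin n) (Fin n) B, IsPoint a s (B ⧸ I) (G.map (Ideal.Quotient.mk I)) →
        ∃ G', IsPoint a s B G' ∧ ∀ i j, G' i j - G i j ∈ I) :
    Algebra.FormallySmooth R (Coord a s) := by
  refine Algebra.FormallySmooth.of_comp_surjective fun B _ _ I hI φ => ?_
  choose G hG using fun i j => Ideal.Quotient.mk_surjective (matOf φ i j)
  have e : (Matrix.of G).map (Ideal.Quotient.mk I) = matOf φ := Matrix.ext fun i j => hG i j
  obtain ⟨G', h1, h2⟩ := H B I hI (Matrix.of G) (e ▸ matOf_isPoint φ)
  obtain ⟨ψ, rfl⟩ := exists_matOf h1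
  refine ⟨ψ, matOf_injective ?_⟩
  rw [matOf_comp, ← e]
  exact Matrix.ext fun i j => Ideal.Quotient.eq.2 (h2 i j)

theorem exists_lift [Algebra.FormallySmooth R (Coord a s)] (I : Ideal B) (hI : I ^ 2 = ⊥)
    (G : Matrix (Fin n) (Fin n) B) (hG : IsPoint a s (B ⧸ I) (G.map (Ideal.Quotient.mk I))) :
    ∃ G', IsPoint a s B G' ∧ ∀ i j, G' i j - G i j ∈ I := by
  obtain ⟨φ, hφ⟩ := exists_matOf hG
  obtain ⟨ψ, hψ⟩ := Algebra.FormallySmooth.comp_surjective R (Coord a s) I hI φ
  refine ⟨matOf ψ, matOf_isPoint ψ, fun i j => Ideal.Quotient.eq.1 ?_⟩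
  exact congrFun (congrFun ((congrArg matOf hψ).trans hφ) i) j

section Forms

variable (Q : QuadraticForm R (Fin n → R))

/-- The table of `Q`. -/
noncomputable abbrev table : Sym2 (Fin n) → R :=
  coeffs (Pi.basisFun R (Fin n)) (LinearEquiv.refl R R) Q

variable (A) in
/-- The standard basis of `A ⊗ R^n`. -/
noncomputable abbrev stdBasis : Module.Basis (Fin n) A (A ⊗[R] (Fin n → R)) :=
  Algebra.TensorProduct.basis A (Pi.basisFun R (Fin n))

theorem coeffs_baseChangeForm :
    coeffs (stdBasis A) (LinearEquiv.refl A A) (baseChangeForm A Q) =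
      fun p => algebraMap R A (table Q p) := by
  funext p
  induction p using Sym2.ind with
  | _ i j =>
    simp only [coeffs_mk, stdBasis, Algebra.TensorProduct.basis_apply, LinearEquiv.refl_apply,
      QuadInf.baseChangeForm_tmul, QuadInf.polar_baseChangeForm, table]
    split_ifs <;> rfl

theorem eq_of_coeffs_eq {M : Type*} [AddCommGroup M] [Module A M] (b : Module.Basis (Fin n) A M)
    {q q' : QuadraticForm A M}
    (h : coeffs b (LinearEquiv.refl A A) q = coeffs b (LinearEquiv.refl A A) q') : q = q' := by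
  rw [← QuadraticMap.toQuadraticMap_toBilin q b, ← QuadraticMap.toQuadraticMap_toBilin q' b]
  congr 1
  exact b.ext fun i => b.ext fun j => by rw [toBilin_basis, toBilin_basis, h]

theorem mem_orth_iff (g : (A ⊗[R] (Fin n → R)) ≃ₗ[A] (A ⊗[R] (Fin n → R))) :
    g ∈ orth Q A ↔
      transform (fun p => algebraMap R A (table Q p))
        (LinearMap.toMatrix (stdBasis A) (stdBasis A) g.toLinearMap) =
          fun p => algebraMap R A (table Q p) := by
  have e := coeffs_comp (stdBasis A) (baseChangeForm A Q) g.toLinearMap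
  rw [coeffs_baseChangeForm] at e
  rw [← e]
  constructor
  · intro h
    rw [← coeffs_baseChangeForm Q]
    congr 1
    exact QuadraticMap.ext fun v => congrArg (AlgebraTensorModule.rid R A A) (h v)
  · intro h
    rw [← coeffs_baseChangeForm Q] at h
    exact QuadInf.baseChange_mem Q A fun v => QuadraticMap.congr_fun (eq_of_coeffs_eq _ h) v

theorem mem_orth_iff_isPoint (g : (A ⊗[R] (Fin n → R)) ≃ₗ[A] (A ⊗[R] (Fin n → R))) :
    g ∈ orth Q A ↔
      IsPoint (table Q) false A (LinearMap.toMatrix (stdBasis A) (stdBasis A) g.toLinearMap) :=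
  ⟨fun h => ⟨by rw [LinearMap.det_toMatrix]; exact LinearEquiv.isUnit_det' g,
    (mem_orth_iff Q g).1 h, fun h => absurd h Bool.false_ne_true⟩,
    fun h => (mem_orth_iff Q g).2 h.table⟩

theorem mem_sorth'_iff_isPoint (g : (A ⊗[R] (Fin n → R)) ≃ₗ[A] (A ⊗[R] (Fin n → R))) :
    g ∈ sorth' Q A ↔
      IsPoint (table Q) true A (LinearMap.toMatrix (stdBasis A) (stdBasis A) g.toLinearMap) := by
  rw [sorth', SO', Subgroup.mem_inf, MonoidHom.mem_ker, Units.ext_iff, LinearEquiv.coe_det,
    Units.val_one]
  constructor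
  · rintro ⟨h1, h2⟩
    refine ⟨?_, (mem_orth_iff Q g).1 h1, fun _ => ?_⟩ <;> rw [LinearMap.det_toMatrix]
    · exact LinearEquiv.isUnit_det' g
    · exact h2
  · intro h
    refine ⟨(mem_orth_iff Q g).2 h.table, ?_⟩
    have := h.det_one rfl
    rwa [LinearMap.det_toMatrix] at this

theorem repr_rTensor (f : A →ₐ[R] B) (z : A ⊗[R] (Fin n → R)) (i : Fin n) :
    (stdBasis B).repr (LinearMap.rTensor (Fin n → R) f.toLinearMap z) i =
      f ((stdBasis A).repr z i) := by
  induction z using TensorProduct.induction_on with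
  | zero => simp
  | tmul x m => simp
  | add x y hx hy => simp only [map_add, Finsupp.add_apply, hx, hy]

open AlgebraicGeometry CategoryTheory MonObj in
/-- Smoothness of a group scheme pinned by a matrix description of its points. -/
theorem smooth_hom_iff (S : ∀ (A : Type u) [CommRing A] [Algebra R A],
      Subgroup ((A ⊗[R] (Fin n → R)) ≃ₗ[A] (A ⊗[R] (Fin n → R))))
    (hS : ∀ (A : Type u) [CommRing A] [Algebra R A] (g : (A ⊗[R] (Fin n → R)) ≃ₗ[A] (A ⊗[R] (Fin n → R))),
      g ∈ S A ↔ IsPoint a s A (LinearMap.toMatrix (stdBasis A) (stdBasis A) g.toLinearMap))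
    (G : Over (Spec (CommRingCat.of R))) [CategoryTheory.GrpObj G] (D : LinRep R (Fin n → R) S G) :
    AlgebraicGeometry.Smooth G.hom ↔ Algebra.FormallySmooth R (Coord a s) := by
  let mat : ∀ (A : Type u) [CommRing A] [Algebra R A], (specOver R A ⟶ G) → Matrix (Fin n) (Fin n) A :=
    fun A _ _ y => LinearMap.toMatrix (stdBasis A) (stdBasis A) (D.pts A y).1.toLinearMap
  have inj : ∀ (A : Type u) [CommRing A] [Algebra R A], Function.Injective (mat A) := fun A _ _ y y' h =>
    (D.pts A).injective (Subtype.ext (LinearEquiv.toLinearMap_injective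
      ((LinearMap.toMatrix (stdBasis A) (stdBasis A)).injective h)))
  have nat : ∀ (A B : Type u) [CommRing A] [Algebra R A] [CommRing B] [Algebra R B] (f : A →ₐ[R] B)
      (y : specOver R A ⟶ G), mat B (specOverMap R f ≫ y) = (mat A y).map f := by
    intro A B _ _ _ _ f y
    ext i j
    simp only [mat, LinearMap.toMatrix_apply, Matrix.map_apply, stdBasis,
      Algebra.TensorProduct.basis_apply, LinearEquiv.coe_coe]
    rw [D.natural A B f y]
    exact repr_rTensor f _ i
  obtain ⟨u, hu⟩ : ∃ u, mat (Coord a s) u = matOf (AlgHom.id R (Coord a s)) := by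
    have hp := matOf_isPoint (AlgHom.id R (Coord a s))
    let f : (Coord a s ⊗[R] (Fin n → R)) →ₗ[Coord a s] (Coord a s ⊗[R] (Fin n → R)) :=
      (LinearMap.toMatrix (stdBasis (Coord a s)) (stdBasis (Coord a s))).symm
      (matOf (AlgHom.id R (Coord a s)))
    have hf : LinearMap.toMatrix (stdBasis (Coord a s)) (stdBasis (Coord a s)) f =
        matOf (AlgHom.id R (Coord a s)) := LinearEquiv.apply_symm_apply _ _
    have hdet : IsUnit (LinearMap.toMatrix (stdBasis (Coord a s)) (stdBasis (Coord a s)) f).det := by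
      rw [hf]; exact hp.isUnit_det
    obtain ⟨g, hg⟩ : ∃ g : (Coord a s ⊗[R] (Fin n → R)) ≃ₗ[Coord a s] (Coord a s ⊗[R] (Fin n → R)),
        g.toLinearMap = f :=
      ⟨LinearEquiv.ofIsUnitDet (f := f) hdet, LinearEquiv.coe_ofIsUnitDet (f := f) hdet⟩
    refine ⟨(D.pts _).symm ⟨g, (hS _ g).2 (by rw [hg, hf]; exact hp)⟩, ?_⟩
    simp only [mat, MulEquiv.apply_symm_apply]
    rw [hg, hf]
  have hbij : ∀ (A : Type u) [CommRing A] [Algebra R A],
      Function.Bijective fun φ : Coord a s →ₐ[R] A => specOverMap R φ ≫ u := by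
    intro A _ _
    have key : ∀ φ : Coord a s →ₐ[R] A, mat A (specOverMap R φ ≫ u) = matOf φ := fun φ => by
      rw [nat, hu, ← matOf_comp, AlgHom.comp_id]
    refine ⟨fun φ ψ h => matOf_injective (by rw [← key, ← key]; exact congrArg _ h), fun y => ?_⟩
    obtain ⟨φ, hφ⟩ := exists_matOf ((hS A _).1 (D.pts A y).2)
    exact ⟨φ, inj A ((key φ).trans hφ)⟩
  have := RepIso.isIso_left u hbij
  have hw : u.left ≫ G.hom = Spec.map (CommRingCat.ofHom (algebraMap R (Coord a s))) := Over.w u
  have : MorphismProperty.RespectsIso (@AlgebraicGeometry.Smooth.{u}) :=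
    HasRingHomProperty.instIsZariskiLocalAtSource.toRespects
  rw [← MorphismProperty.cancel_left_of_respectsIso (P := @AlgebraicGeometry.Smooth.{u}) u.left G.hom]
  change AlgebraicGeometry.Smooth (u.left ≫ G.hom) ↔ _
  rw [hw]
  refine (HasRingHomProperty.Spec_iff (P := @AlgebraicGeometry.Smooth.{u})).trans ?_
  rw [CommRingCat.hom_ofHom, RingHom.smooth_algebraMap]
  exact ⟨fun h => h.formallySmooth, fun h => ⟨h, finitePresentation⟩⟩

end Forms

section Lifting

variable (I : Ideal B) (hI : I ^ 2 = ⊥) {G : Matrix (Fin n) (Fin n) B}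
  (hG : IsPoint a s (B ⧸ I) (G.map (Ideal.Quotient.mk I)))

include hI in
theorem mul_eq_zero_of_sq : ∀ x ∈ I, ∀ y ∈ I, x * y = (0 : B) := fun x hx y hy => by
  have := Ideal.mul_mem_mul hx hy
  rwa [← sq, hI, Ideal.mem_bot] at this

include hG in
theorem table_sub_mem (p : Sym2 (Fin n)) :
    transform (fun q => algebraMap R B (a q)) G p - algebraMap R B (a p) ∈ I := by
  rw [← Ideal.Quotient.eq, map_transform]
  exact congrFun hG.table p

include hG in
theorem det_sub_one_mem (hs : s = true) : G.det - 1 ∈ I := by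
  rw [← Ideal.Quotient.eq, RingHom.map_det, RingHom.mapMatrix_apply, map_one]
  exact hG.det_one hs

include hI hG in
theorem isUnit_det : IsUnit G.det := by
  obtain ⟨v, hv⟩ := hG.isUnit_det.exists_left_inv
  obtain ⟨w, rfl⟩ := Ideal.Quotient.mk_surjective v
  have h : w * G.det - 1 ∈ I := by
    rw [← Ideal.Quotient.eq, map_mul, RingHom.map_det, RingHom.mapMatrix_apply, map_one]
    exact hv
  refine IsUnit.of_mul_eq_one (w * (2 - w * G.det)) ?_
  linear_combination -(mul_eq_zero_of_sq I hI _ h _ h)

include hI hG in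
/-- Lifting when the polar matrix is invertible. -/
theorem lift_of_isUnit_det (hP : IsUnit (polarMat a).det) (h2 : s = true → IsUnit (2 : R)) :
    ∃ G', IsPoint a s B G' ∧ ∀ i j, G' i j - G i j ∈ I := by
  have hI' := mul_eq_zero_of_sq I hI
  set aB : Sym2 (Fin n) → B := fun q => algebraMap R B (a q) with haB
  have hPB : IsUnit (polarMat aB).det := by
    rw [haB, ← polarMat_map, ← RingHom.mapMatrix_apply, ← RingHom.map_det]
    exact hP.map _
  set δ := transform aB G - aB with hδ
  have hδI : ∀ q, δ q ∈ I := table_sub_mem I hG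
  let Y := (polarMat aB)⁻¹ * (-triMat δ)
  have hY : ∀ i j, Y i j ∈ I := mul_mem_right_matrix I fun i j => I.neg_mem (triMat_mem I hδI i j)
  have hPY : polarMat aB * Y = -triMat δ := by
    rw [← Matrix.mul_assoc, mul_nonsing_inv _ hPB, Matrix.one_mul]
  have htab : transform aB (G * (1 + Y)) = aB := by
    rw [transform_mul, show transform aB G = aB + δ by rw [hδ, add_sub_cancel],
      transform_one_add I hI' _ hY, polarMat_add_mul I hI' hδI hY, hPY,
      ← neg_one_smul B (triMat δ), tab_smul, tab_triMat, neg_one_smul, add_neg_cancel_right]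
  have hdet : (G * (1 + Y)).det = G.det * (1 + Y.trace) := by rw [det_mul, det_one_add I hI' hY]
  have htr : Y.trace ∈ I := I.sum_mem fun i _ => hY i i
  refine ⟨G * (1 + Y), ⟨?_, htab, fun hs => ?_⟩, fun i j => ?_⟩
  · rw [hdet]
    exact (isUnit_det I hI hG).mul
      (IsUnit.of_mul_eq_one (1 - Y.trace) (by linear_combination -(hI' _ htr _ htr)))
  · set x := (G * (1 + Y)).det with hx
    have hx1 : x - 1 ∈ I := by
      rw [hdet, mul_add, mul_one, add_sub_right_comm]
      exact I.add_mem (det_sub_one_mem I hG hs) (I.mul_mem_left _ htr)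
    have hsq : x * x = 1 := by
      have h := congrArg (fun q => (polarMat q).det) htab
      simp only [polarMat_transform, det_mul, det_transpose] at h
      rw [← det_mul, ← hx] at h
      refine hPB.mul_left_cancel ?_
      linear_combination h
    have h0 : (2 : B) * (x - 1) = 0 := by linear_combination hsq - hI' _ hx1 _ hx1
    have h2' : IsUnit (2 : B) := by simpa [map_ofNat] using (h2 hs).map (algebraMap R B)
    exact sub_eq_zero.1 ((h2'.mul_right_eq_zero).1 h0)
  · rw [Matrix.mul_add, Matrix.mul_one, Matrix.add_apply, add_sub_cancel_left]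
    exact mul_mem_right_matrix I hY i j

include hI hG in
/-- Lifting in odd rank for determinant one. -/
theorem lift_of_odd (hn : Odd n) (hh : IsUnit (hd a)) (hs : s = true) :
    ∃ G', IsPoint a s B G' ∧ ∀ i j, G' i j - G i j ∈ I := by
  have hI' := mul_eq_zero_of_sq I hI
  set aB : Sym2 (Fin n) → B := fun q => algebraMap R B (a q) with haB
  have hhB : IsUnit (hd aB) := by rw [haB, ← map_hd]; exact hh.map _
  set δ := transform aB G - aB with hδ
  have hδI : ∀ q, δ q ∈ I := table_sub_mem I hG
  have hσ := det_sub_one_mem I hG hs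
  have htG : transform aB G = aB + δ := by rw [hδ, add_sub_cancel]
  have hkey : (adjugate (polarMat aB) * triMat δ).trace = 2 * hd aB * (G.det - 1) := by
    have h := hd_transform hn aB G
    rw [htG, hd_add hn aB δ fun p q => hI' _ (hδI p) _ (hδI q)] at h
    linear_combination h + hd aB * hI' _ hσ _ hσ
  obtain ⟨Y, hY, hPY, htr⟩ := exists_solve hn aB hhB I ((-1 : B) • δ)
    (fun q => I.mul_mem_left _ (hδI q)) (1 - G.det) (by rw [← neg_sub]; exact I.neg_mem hσ)
    (by rw [triMat_smul, Matrix.mul_smul, trace_smul, hkey, smul_eq_mul]; ring)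
  have hdet : (G * (1 + Y)).det = 1 := by
    rw [det_mul, det_one_add I hI' hY, htr]
    linear_combination -(hI' _ hσ _ hσ)
  refine ⟨G * (1 + Y), ⟨hdet ▸ isUnit_one, ?_, fun _ => hdet⟩, fun i j => ?_⟩
  · rw [← haB, transform_mul, htG, transform_one_add I hI' _ hY, polarMat_add_mul I hI' hδI hY, hPY,
      neg_one_smul, add_neg_cancel_right]
  · rw [Matrix.mul_add, Matrix.mul_one, Matrix.add_apply, add_sub_cancel_left]
    exact mul_mem_right_matrix I hY i j

end Lifting

/-- A regular form has invertible polar matrix. -/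
theorem isUnit_det_polarMat (Q : QuadraticForm R (Fin n → R)) (hQ : IsRegular Q) :
    IsUnit (polarMat (table Q)).det := by
  let b := Pi.basisFun R (Fin n)
  have e : LinearMap.toMatrix b b.dualBasis (QuadraticMap.polarBilin Q) = polarMat (table Q) := by
    ext i j
    rw [LinearMap.toMatrix_apply, Module.Basis.dualBasis_repr, QuadraticMap.polarBilin_apply_apply,
      polarMat, of_apply, table, coeffs_mk]
    rcases eq_or_ne i j with rfl | h
    · rw [if_pos rfl, if_pos rfl, QuadraticMap.polar_self, LinearEquiv.refl_apply, two_nsmul, two_mul]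
    · rw [if_neg h, if_neg h, QuadraticMap.polar_comm]
      rfl
  rw [← e]
  exact LinearEquiv.isUnit_det (LinearEquiv.ofBijective _ hQ) b b.dualBasis

end GrothLib.QuadCoord
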