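import Groth.Agent.Lib.QuadGrp.HalfDisc
import Mathlib.RingTheory.TensorProduct.Free
import Mathlib.LinearAlgebra.Matrix.Charpoly.Coeff
import Mathlib.LinearAlgebra.Trace
import Mathlib.Algebra.DualNumber
import Mathlib.RingTheory.Ideal.Maximal

/-!
# Isometries commuting with the infinitesimal isometries are scalar

`GrothLib.QuadCentre`: for a non-degenerate quadratic form on `R^n`, `n ≥ 3`, an isometry commuting
with the infinitesimal isometries `y ↦ B(a, y) b - B(b, y) a` is a scalar of square one; these give
isometries over the dual numbers of determinant one and satisfying the Dickson condition.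
-/

set_option autoImplicit false

universe u

namespace GrothLib.QuadCentre

open Matrix QuadGrp GrothLib.QuadHalfDisc TensorProduct

section Content

variable {n : ℕ}

/-- In a field, a matrix all of whose 2 × 2 minors vanish has determinant zero (size at least 2). -/
theorem det_eq_zero_of_minors {k : Type*} [Field k] (hn : 2 ≤ n) {P : Matrix (Fin n) (Fin n) k}
    (h : ∀ p q l m, P p l * P q m = P p m * P q l) : P.det = 0 := by
  classical
  let i₀ : Fin n := ⟨0, by omega⟩
  let i₁ : Fin n := ⟨1, by omega⟩
  have hne : i₁ ≠ i₀ := by simp [i₀, i₁]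
  rw [← Matrix.exists_vecMul_eq_zero_iff]
  by_cases h0 : ∀ a, P i₀ a = 0
  · exact ⟨Pi.single i₀ 1, by simp, by ext a; simp [h0 a]⟩
  · push Not at h0
    obtain ⟨a, ha⟩ := h0
    refine ⟨Pi.single i₀ (P i₁ a) - Pi.single i₁ (P i₀ a), fun h' ↦ ha ?_, ?_⟩
    · simpa [hne] using congr_fun h' i₁
    · ext b
      simp only [sub_vecMul, single_vecMul, Pi.sub_apply, Pi.smul_apply, Pi.zero_apply, smul_eq_mul,
        Matrix.row_apply]
      linear_combination h i₀ i₁ b a

/-- A coefficient table with vanishing off-diagonal entries and vanishing polar diagonal has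
half-discriminant zero. -/
theorem hd_diag_eq_zero {k : Type*} [CommRing k] (hn : 2 ≤ n) (hodd : Odd n) (a : Sym2 (Fin n) → k)
    (h2 : (2 : k) = 0) (hoff : ∀ i j, i ≠ j → a (Sym2.mk i j) = 0) : hd a = 0 := by
  classical
  let σ : Sym2 (Fin n) → MvPolynomial (Fin n) ℤ :=
    Sym2.lift ⟨fun i j => if i = j then MvPolynomial.X i else 0, fun i j => by
      by_cases h : i = j
      · subst h; rfl
      · simp [h, Ne.symm h]⟩
  have hσ : ∀ i j, σ (Sym2.mk i j) = if i = j then MvPolynomial.X i else 0 := fun i j => rfl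
  have hdet : (polarMat σ).det = 2 ^ n * ∏ i, MvPolynomial.X i := by
    rw [show polarMat σ = Matrix.diagonal (fun i => 2 * MvPolynomial.X i) by
      ext i j
      by_cases h : i = j <;> simp [polarMat, hσ, h], Matrix.det_diagonal, Finset.prod_mul_distrib]
    simp
  have hhd : hd σ = 2 ^ (n - 1) * ∏ i, MvPolynomial.X i := by
    refine mul_left_cancel₀ (two_ne_zero' (MvPolynomial (Fin n) ℤ)) ?_
    rw [two_mul_hd hodd, hdet, ← mul_assoc, ← pow_succ', Nat.sub_add_cancel (by omega)]
  let φ : MvPolynomial (Fin n) ℤ →+* k :=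
    MvPolynomial.eval₂Hom (Int.castRingHom k) fun i => a (Sym2.mk i i)
  have ha : a = fun q => φ (σ q) := by
    funext q
    induction q using Sym2.ind with
    | _ i j =>
      rw [hσ]
      by_cases h : i = j
      · subst h; simp [φ]
      · simp [h, hoff i j h]
  rw [ha, ← map_hd, hhd, map_mul, map_pow, map_ofNat, h2, zero_pow (by omega), zero_mul]

variable {R : Type u} [CommRing R]

/-- The minors of the polar matrix generate the unit ideal. -/
theorem minors_span (hn : 2 ≤ n) (a : Sym2 (Fin n) → R)
    (h : IsUnit (polarMat a).det ∨ (Odd n ∧ IsUnit (hd a))) :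
    Ideal.span {δ : R | ∃ p q l m, p ≠ q ∧
      δ = polarMat a p l * polarMat a q m - polarMat a p m * polarMat a q l} = ⊤ := by
  classical
  by_contra hne
  obtain ⟨I, hI, hle⟩ := Ideal.exists_le_maximal _ hne
  let := Ideal.Quotient.field I
  let π := Ideal.Quotient.mk I
  have hP : ∀ i j, π (polarMat a i j) = polarMat (fun q => π (a q)) i j := by
    intro i j
    simp only [polarMat, of_apply]
    split_ifs
    · rw [map_mul, map_ofNat]
    · rfl
  have hmin : ∀ p q l m, polarMat (fun q => π (a q)) p l * polarMat (fun q => π (a q)) q m =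
      polarMat (fun q => π (a q)) p m * polarMat (fun q => π (a q)) q l := by
    intro p q l m
    rcases eq_or_ne p q with rfl | hpq
    · ring
    rw [← sub_eq_zero, ← hP, ← hP, ← hP, ← hP, ← map_mul, ← map_mul, ← map_sub,
      Ideal.Quotient.eq_zero_iff_mem]
    exact hle (Ideal.subset_span ⟨p, q, l, m, hpq, rfl⟩)
  have hdet0 := det_eq_zero_of_minors hn hmin
  rcases h with h | ⟨hodd, h⟩
  · refine (h.map π).ne_zero ?_
    rw [RingHom.map_det, ← hdet0]
    congr 1
    ext i j
    exact hP i j
  · refine (h.map π).ne_zero ?_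
    rw [map_hd]
    by_cases h2 : (2 : R ⧸ I) = 0
    · refine hd_diag_eq_zero hn hodd _ h2 fun i j hij => ?_
      have := hmin i j i j
      simp only [polarMat, of_apply, if_pos, h2, zero_mul, if_neg hij, if_neg hij.symm,
        Sym2.eq_swap (a := j) (b := i)] at this
      exact mul_self_eq_zero.mp this.symm
    · have := two_mul_hd hodd (fun q => π (a q))
      rw [hdet0] at this
      exact (mul_eq_zero.mp this).resolve_left h2

end Content

section Centralizer

variable {R : Type u} [CommRing R] {n : ℕ}

/-- The algebra behind the centre computation. -/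
theorem scalar_of_eq (hn : 3 ≤ n) {P : Matrix (Fin n) (Fin n) R} {g f : Fin n → Fin n → R}
    (hspan : Ideal.span {δ : R | ∃ p q l m, p ≠ q ∧ δ = P p l * P q m - P p m * P q l} = ⊤)
    (H : ∀ i j l k, P i l * g k j - P j l * g k i =
      f i l * (if k = j then 1 else 0) - f j l * (if k = i then 1 else 0)) :
    (∀ i j, i ≠ j → g i j = 0) ∧ ∀ i j, g i i = g j j := by
  classical
  have E1 : ∀ k i j l, k ≠ i → k ≠ j → P i l * g k j = P j l * g k i := fun k i j l hi hj => by
    have := H i j l k
    rw [if_neg hi, if_neg hj] at this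
    linear_combination this
  have E2 : ∀ i i' j l, i ≠ j → i' ≠ j →
      P i l * g i j - P j l * g i i = P i' l * g i' j - P j l * g i' i' := fun i i' j l hi hi' => by
    have h1 := H i j l i
    have h2 := H i' j l i'
    rw [if_neg hi, if_pos rfl] at h1
    rw [if_neg hi', if_pos rfl] at h2
    linear_combination h1 - h2
  have third : ∀ p q : Fin n, ∃ k, k ≠ p ∧ k ≠ q := fun p q => by
    have : ({p, q} : Finset (Fin n))ᶜ.Nonempty := by
      rw [← Finset.card_pos, Finset.card_compl, Fintype.card_fin]
      have := Finset.card_le_two (a := p) (b := q)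
      omega
    obtain ⟨k, hk⟩ := this
    exact ⟨k, by simp at hk; exact hk.1, by simp at hk; exact hk.2⟩
  -- everything below is killed by the cube of every minor
  have key : ∀ p q l m, p ≠ q → ∀ δ, δ = P p l * P q m - P p m * P q l →
      (∀ i j, i ≠ j → δ ^ 3 * g i j = 0) ∧ ∀ i j, δ ^ 3 * (g i i - g j j) = 0 := by
    intro p q l m hpq δ hδ
    have A : ∀ k j, k ≠ p → k ≠ q → k ≠ j → δ * g k j = 0 := by
      intro k j hkp hkq hkj
      rw [hδ]
      linear_combination (P p l) * E1 k q j m hkq hkj + (P j m) * E1 k p q l hkp hkq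
        + (P q l) * E1 k j p m hkj hkp
    have B : ∀ p q l m, p ≠ q → δ = P p l * P q m - P p m * P q l →
        (∀ k j, k ≠ p → k ≠ q → k ≠ j → δ * g k j = 0) →
        δ ^ 2 * g p q = 0 ∧ (∀ k, k ≠ p → k ≠ q → δ ^ 2 * (g p p - g k k) = 0) ∧
          ∀ j, j ≠ p → j ≠ q → δ ^ 3 * g p j = 0 := by
      intro p q l m hpq hδ A
      obtain ⟨k, hkp, hkq⟩ := third p q
      have hl := E2 p k q l hpq hkq
      have hm := E2 p k q m hpq hkq
      have h0 := A k q hkp hkq hkq
      have hpq2 : δ ^ 2 * g p q = 0 := by
        linear_combination (g p q * δ) * hδ + δ * P q m * hl - δ * P q l * hm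
          + (P k l * P q m - P k m * P q l) * h0
      refine ⟨hpq2, fun k hkp hkq => ?_, fun j hjp hjq => ?_⟩
      · have hl := E2 p k q l hpq hkq
        have hm := E2 p k q m hpq hkq
        have h0 := A k q hkp hkq hkq
        linear_combination ((g p p - g k k) * δ) * hδ + δ * P p m * hl - δ * P p l * hm
          + (P p m * P k l - P p l * P k m) * h0
      · have hl := E1 p q j l hpq hjp.symm
        have hm := E1 p q j m hpq hjp.symm
        linear_combination (g p j * δ ^ 2) * hδ + δ ^ 2 * P p l * hm - δ ^ 2 * P p m * hl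
          + (P p l * P j m - P p m * P j l) * hpq2
    have hδ' : δ = P q m * P p l - P q l * P p m := by rw [hδ]; ring
    obtain ⟨Bp, Dp, Cp⟩ := B p q l m hpq hδ A
    obtain ⟨Bq, Dq, Cq⟩ := B q p m l hpq.symm hδ' fun k j h1 h2 => A k j h2 h1
    refine ⟨fun i j hij => ?_, ?_⟩
    · by_cases hip : i = p
      · subst hip
        by_cases hjq : j = q
        · subst hjq; linear_combination δ * Bp
        · exact Cp j hij.symm hjq
      by_cases hiq : i = q
      · subst hiq
        by_cases hjp : j = p
        · subst hjp; linear_combination δ * Bq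
        · exact Cq j hij.symm hjp
      linear_combination δ ^ 2 * A i j hip hiq hij
    obtain ⟨k, hkp, hkq⟩ := third p q
    have hD : ∀ i, δ ^ 3 * (g i i - g k k) = 0 := by
      intro i
      by_cases hip : i = p
      · subst hip; linear_combination δ * Dp k hkp hkq
      by_cases hiq : i = q
      · subst hiq; linear_combination δ * Dq k hkq hkp
      linear_combination δ * Dp k hkp hkq - δ * Dp i hip hiq
    intro i j
    linear_combination hD i - hD j
  have hspan3 := Ideal.span_pow_eq_top _ hspan 3
  have kill : ∀ r : R, (∀ p q l m, p ≠ q → ∀ δ, δ = P p l * P q m - P p m * P q l → δ ^ 3 * r = 0) →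
      r = 0 := by
    intro r hr
    have h1 : (1 : R) ∈ Ideal.span _ := hspan3 ▸ Submodule.mem_top
    have : ∀ x ∈ Ideal.span ((fun x : R => x ^ 3) '' {δ : R | ∃ p q l m, p ≠ q ∧
        δ = P p l * P q m - P p m * P q l}), x * r = 0 := fun x hx => by
      induction hx using Submodule.span_induction with
      | mem x hx =>
        obtain ⟨δ, ⟨p, q, l, m, hpq, hδ⟩, rfl⟩ := hx
        exact hr p q l m hpq δ hδ
      | zero => simp
      | add x y _ _ hx hy => rw [add_mul, hx, hy, add_zero]
      | smul c x _ hx => rw [smul_eq_mul, mul_assoc, hx, mul_zero]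
    simpa using this 1 h1
  exact ⟨fun i j hij => kill _ fun p q l m hpq δ hδ => (key p q l m hpq δ hδ).1 i j hij,
    fun i j => sub_eq_zero.mp (kill _ fun p q l m hpq δ hδ => (key p q l m hpq δ hδ).2 i j)⟩

variable (Q : QuadraticForm R (Fin n → R))

/-- Non-degeneracy in the form used here. -/
theorem minors_span_of_isRegular (hn : 2 ≤ n) (hQ : IsRegular Q) :
    Ideal.span {δ : R | ∃ p q l m, p ≠ q ∧
      δ = polarMat (coeffs (Pi.basisFun R (Fin n)) (LinearEquiv.refl R R) Q) p l *
          polarMat (coeffs (Pi.basisFun R (Fin n)) (LinearEquiv.refl R R) Q) q m -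
        polarMat (coeffs (Pi.basisFun R (Fin n)) (LinearEquiv.refl R R) Q) p m *
          polarMat (coeffs (Pi.basisFun R (Fin n)) (LinearEquiv.refl R R) Q) q l} = ⊤ := by
  classical
  refine minors_span hn _ (Or.inl ?_)
  choose x hx using fun l => hQ.2 (LinearMap.proj l)
  refine IsUnit.of_mul_eq_one_right (Matrix.of x).det ?_
  rw [← Matrix.det_mul, show Matrix.of x *
    polarMat (coeffs (Pi.basisFun R (Fin n)) (LinearEquiv.refl R R) Q) = 1 from ?_, Matrix.det_one]
  ext l t
  rw [Matrix.mul_apply]
  have h1 := congr($(hx l) (Pi.basisFun R (Fin n) t))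
  rw [← (Pi.basisFun R (Fin n)).sum_repr (x l)] at h1
  simp only [map_sum, map_smul, LinearMap.sum_apply, LinearMap.smul_apply, Pi.basisFun_repr,
    QuadraticMap.polarBilin_apply_apply, LinearMap.proj_apply, smul_eq_mul] at h1
  rw [Matrix.one_apply]
  refine (Finset.sum_congr rfl fun i _ => ?_).trans (h1.trans (by simp [Pi.single_apply]))
  rw [polarMat, of_apply, of_apply, coeffs_mk]
  split_ifs with h
  · subst h
    rw [LinearEquiv.refl_apply, QuadraticMap.polar_self, nsmul_eq_mul, Nat.cast_ofNat]
  · rw [LinearEquiv.refl_apply]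

theorem polarMat_coeffs (i j : Fin n) :
    polarMat (coeffs (Pi.basisFun R (Fin n)) (LinearEquiv.refl R R) Q) i j =
      QuadraticMap.polar Q (Pi.basisFun R (Fin n) i) (Pi.basisFun R (Fin n) j) := by
  rw [polarMat, of_apply, coeffs_mk]
  split_ifs with h
  · subst h
    rw [LinearEquiv.refl_apply, QuadraticMap.polar_self, nsmul_eq_mul, Nat.cast_ofNat]
  · rw [LinearEquiv.refl_apply]

/-- The infinitesimal isometry `y ↦ B(a, y) b - B(b, y) a`. -/
def bivec (a b y : Fin n → R) : Fin n → R :=
  QuadraticMap.polar Q a y • b - QuadraticMap.polar Q b y • a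

theorem scalar_of_commute (hn : 3 ≤ n)
    (hspan : Ideal.span {δ : R | ∃ p q l m, p ≠ q ∧
      δ = polarMat (coeffs (Pi.basisFun R (Fin n)) (LinearEquiv.refl R R) Q) p l *
          polarMat (coeffs (Pi.basisFun R (Fin n)) (LinearEquiv.refl R R) Q) q m -
        polarMat (coeffs (Pi.basisFun R (Fin n)) (LinearEquiv.refl R R) Q) p m *
          polarMat (coeffs (Pi.basisFun R (Fin n)) (LinearEquiv.refl R R) Q) q l} = ⊤)
    (g : (Fin n → R) ≃ₗ[R] (Fin n → R)) (hg : g ∈ O Q)
    (hcomm : ∀ a b y, g (bivec Q a b y) = bivec Q a b (g y)) :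
    ∃ c : R, c * c = 1 ∧ ∀ v, g v = c • v := by
  classical
  set e := Pi.basisFun R (Fin n)
  have H := scalar_of_eq hn hspan (g := fun k j => g (e j) k)
    (f := fun i l => QuadraticMap.polar Q (e i) (g (e l))) (fun i j l k => by
      have := congr_fun (hcomm (e i) (e j) (e l)) k
      simp only [bivec, map_sub, map_smul, Pi.sub_apply, Pi.smul_apply, smul_eq_mul] at this
      rw [polarMat_coeffs, polarMat_coeffs, this]
      simp [e, Pi.single_apply])
  let i₀ : Fin n := ⟨0, by omega⟩
  have hv : ∀ v, g v = g (e i₀) i₀ • v := by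
    suffices g.toLinearMap = g (e i₀) i₀ • LinearMap.id from fun v => congr($this v)
    refine e.ext fun j => funext fun k => ?_
    by_cases h : k = j
    · subst h; simpa [e] using H.2 k i₀
    · simpa [e, Pi.single_apply, h] using H.1 k j h
  refine ⟨g (e i₀) i₀, ?_, hv⟩
  set c := g (e i₀) i₀
  have hc : ∀ i j, (c * c - 1) *
      polarMat (coeffs e (LinearEquiv.refl R R) Q) i j = 0 := by
    intro i j
    have : QuadraticMap.polar Q (c • e i) (c • e j) = QuadraticMap.polar Q (e i) (e j) := by
      rw [← hv, ← hv]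
      simp only [QuadraticMap.polar, ← map_add]
      rw [hg, hg, hg]
    rw [QuadraticMap.polar_smul_left, QuadraticMap.polar_smul_right, smul_eq_mul, smul_eq_mul] at this
    rw [polarMat_coeffs]
    linear_combination this
  have h1 : (1 : R) ∈ Ideal.span _ := hspan ▸ Submodule.mem_top
  suffices ∀ x ∈ Ideal.span _, (c * c - 1) * x = 0 from sub_eq_zero.mp (by simpa using this 1 h1)
  intro x hx
  induction hx using Submodule.span_induction with
  | mem x hx =>
    obtain ⟨p, q, l, m, -, rfl⟩ := hx
    linear_combination polarMat (coeffs e (LinearEquiv.refl R R) Q) q m * hc p l -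
      polarMat (coeffs e (LinearEquiv.refl R R) Q) q l * hc p m
  | zero => simp
  | add x y _ _ hx hy => rw [mul_add, hx, hy, add_zero]
  | smul r x _ hx => rw [smul_eq_mul, mul_left_comm, hx, mul_zero]

end Centralizer

end GrothLib.QuadCentre
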