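import Groth.Prelude.Def_QuadGrp
import Mathlib.GroupTheory.Perm.Fin
import Mathlib.LinearAlgebra.Matrix.ToLin
import Mathlib.Algebra.CharP.Two
import Mathlib.Algebra.MvPolynomial.Eval
import Mathlib.RingTheory.MvPolynomial.Basic
import Mathlib.Data.ZMod.Basic

/-! The half-discriminant of an odd rank quadratic form and changes of coordinates. -/

namespace GrothLib.QuadHalfDisc

open Matrix QuadGrp

universe u v

theorem det_eq_zero_of_alt_charTwo {R : Type*} [CommRing R] (h2 : ∀ r : R, r + r = 0) {n : ℕ} (hn : Odd n)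
    {P : Matrix (Fin n) (Fin n) R} (hs : ∀ i j, P i j = P j i) (hd : ∀ i, P i i = 0) : P.det = 0 := by
  classical
  rw [Matrix.det_apply']
  refine Finset.sum_involution (fun σ _ => σ⁻¹) (fun σ _ => ?_) (fun σ _ hne he => ?_)
    (fun σ _ => Finset.mem_univ _) (fun σ _ => inv_inv σ)
  · have : ∏ i, P (σ⁻¹ i) i = ∏ i, P (σ i) i := by
      rw [← Equiv.prod_comp σ]
      exact Finset.prod_congr rfl fun i _ => by rw [show σ⁻¹ (σ i) = i from σ.symm_apply_apply i, hs]
    rw [this, Equiv.Perm.sign_inv]
    exact h2 _
  · -- an involution of a set of odd cardinality has a fixed point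
    obtain ⟨i, hi⟩ : ∃ i, σ i = i := by
      by_contra hfix
      push Not at hfix
      have hsq : σ ^ 2 = 1 := by
        rw [sq]; nth_rewrite 1 [← he]; exact inv_mul_cancel σ
      have := Equiv.Perm.card_compl_support_modEq (p := 2) (n := 1) (σ := σ) (by simpa using hsq)
      rw [show σ.supportᶜ = ∅ by
        rw [Finset.compl_eq_empty_iff, Finset.eq_univ_iff_forall]
        exact fun i => Equiv.Perm.mem_support.2 (hfix i), Finset.card_empty, Fintype.card_fin] at this
      have h2 : n % 2 = 1 := Nat.odd_iff.1 hn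
      rw [Nat.ModEq] at this
      omega
    exact hne (by rw [Finset.prod_eq_zero (Finset.mem_univ i) (by rw [hi]; exact hd i), mul_zero])

section Table

variable {R : Type*} [CommRing R] {n : ℕ}

/-- The polar matrix of a coefficient table. -/
def polarMat (a : Sym2 (Fin n) → R) : Matrix (Fin n) (Fin n) R :=
  of fun i j => if i = j then 2 * a (Sym2.mk i j) else a (Sym2.mk i j)

/-- The upper triangular matrix of a coefficient table. -/
def triMat (a : Sym2 (Fin n) → R) : Matrix (Fin n) (Fin n) R :=
  of fun i j => if i ≤ j then a (Sym2.mk i j) else 0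

theorem triMat_add_transpose (a : Sym2 (Fin n) → R) : triMat a + (triMat a)ᵀ = polarMat a := by
  ext i j
  simp only [triMat, polarMat, Matrix.add_apply, transpose_apply, of_apply, Sym2.eq_swap (a := j) (b := i)]
  rcases lt_trichotomy i j with h | rfl | h
  · simp [h.le, h.not_ge, h.ne]
  · simp [two_mul]
  · simp [h.le, h.not_ge, h.ne']

/-- The coefficient table after a change of coordinates. -/
def transform (a : Sym2 (Fin n) → R) (G : Matrix (Fin n) (Fin n) R) : Sym2 (Fin n) → R :=
  Sym2.lift ⟨fun k l => if k = l then (Gᵀ * triMat a * G) k l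
    else (Gᵀ * triMat a * G) k l + (Gᵀ * triMat a * G) l k, fun k l => by
      by_cases h : k = l
      · subst h; rfl
      · dsimp only
        rw [if_neg h, if_neg (Ne.symm h), add_comm]⟩

theorem transform_mk (a : Sym2 (Fin n) → R) (G : Matrix (Fin n) (Fin n) R) (k l : Fin n) :
    transform a G (Sym2.mk k l) = if k = l then (Gᵀ * triMat a * G) k l
      else (Gᵀ * triMat a * G) k l + (Gᵀ * triMat a * G) l k := rfl

theorem polarMat_transform (a : Sym2 (Fin n) → R) (G : Matrix (Fin n) (Fin n) R) :
    polarMat (transform a G) = Gᵀ * polarMat a * G := by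
  have e : (Gᵀ * triMat a * G)ᵀ = Gᵀ * (triMat a)ᵀ * G := by
    rw [transpose_mul, transpose_mul, transpose_transpose, Matrix.mul_assoc]
  rw [← triMat_add_transpose a, Matrix.mul_add, Matrix.add_mul, ← e]
  ext k l
  rw [polarMat, of_apply, transform_mk, Matrix.add_apply, transpose_apply]
  split_ifs with h
  · subst h; rw [two_mul]
  · rfl

theorem map_transform {S : Type*} [CommRing S] (φ : R →+* S) (a : Sym2 (Fin n) → R)
    (G : Matrix (Fin n) (Fin n) R) (p : Sym2 (Fin n)) :
    φ (transform a G p) = transform (fun q => φ (a q)) (G.map φ) p := by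
  have e : (Gᵀ * triMat a * G).map φ = (G.map φ)ᵀ * triMat (fun q => φ (a q)) * G.map φ := by
    rw [Matrix.map_mul, Matrix.map_mul, transpose_map,
      show (triMat a).map φ = triMat (fun q => φ (a q)) from Matrix.ext fun i j => by
        simp only [triMat, map_apply, of_apply]; split_ifs <;> simp]
  induction p using Sym2.ind with
  | _ k l =>
    rw [transform_mk, transform_mk, ← e]
    split_ifs <;> simp

/-- The half-discriminant of a coefficient table. -/
noncomputable def hd (a : Sym2 (Fin n) → R) : R :=
  MvPolynomial.eval₂ (Int.castRingHom R) a (halfDiscUniv n)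

theorem map_hd {S : Type*} [CommRing S] (φ : R →+* S) (a : Sym2 (Fin n) → R) :
    φ (hd a) = hd fun q => φ (a q) := by
  rw [hd, hd, MvPolynomial.eval₂_comp_left]
  congr 1
  exact RingHom.ext_int _ _

theorem two_mul_halfDiscUniv (hn : Odd n) : 2 * halfDiscUniv n = discUniv n := by
  have heven : ∀ s, (2 : ℤ) ∣ MvPolynomial.coeff s (discUniv n) := by
    intro s
    set ρ : MvPolynomial (Sym2 (Fin n)) ℤ →+* MvPolynomial (Sym2 (Fin n)) (ZMod 2) :=
      MvPolynomial.map (Int.castRingHom (ZMod 2))
    have h0 : ρ (discUniv n) = 0 := by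
      rw [discUniv, RingHom.map_det]
      have h2' : ∀ r : MvPolynomial (Sym2 (Fin n)) (ZMod 2), r + r = 0 := fun r => by
        rw [← two_mul, show (2 : MvPolynomial (Sym2 (Fin n)) (ZMod 2)) = MvPolynomial.C 2 from (map_ofNat _ 2).symm,
          show (2 : ZMod 2) = 0 from rfl, map_zero, zero_mul]
      refine det_eq_zero_of_alt_charTwo h2' hn (fun i j => ?_) (fun i => ?_)
      · simp only [RingHom.mapMatrix_apply, map_apply, univPolarMat, of_apply]
        by_cases h : i = j
        · subst h; rfl
        · rw [if_neg h, if_neg (Ne.symm h), Sym2.eq_swap]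
      · simp [RingHom.mapMatrix_apply, map_apply, univPolarMat, of_apply, map_mul]
        rw [map_ofNat, two_mul]
        exact h2' _
    have := congrArg (MvPolynomial.coeff s) h0
    rw [MvPolynomial.coeff_map, MvPolynomial.coeff_zero] at this
    exact (ZMod.intCast_zmod_eq_zero_iff_dvd _ 2).1 this
  ext s
  rw [show (2 : MvPolynomial (Sym2 (Fin n)) ℤ) = MvPolynomial.C 2 from (map_ofNat _ 2).symm,
    MvPolynomial.coeff_C_mul, coeff_halfDiscUniv]
  exact Int.mul_ediv_cancel' (heven s)

theorem two_mul_hd (hn : Odd n) (a : Sym2 (Fin n) → R) : 2 * hd a = (polarMat a).det := by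
  have h := congrArg (MvPolynomial.eval₂Hom (Int.castRingHom R) a) (two_mul_halfDiscUniv hn)
  rw [map_mul, map_ofNat, discUniv, RingHom.map_det] at h
  refine h.trans (congrArg Matrix.det (Matrix.ext fun i j => ?_))
  simp only [RingHom.mapMatrix_apply, map_apply, univPolarMat, polarMat, of_apply]
  split_ifs <;> simp [MvPolynomial.eval₂_eq_eval_map, map_ofNat]

theorem hd_transform (hn : Odd n) (a : Sym2 (Fin n) → R) (G : Matrix (Fin n) (Fin n) R) :
    hd (transform a G) = G.det ^ 2 * hd a := by
  let S := MvPolynomial (Sym2 (Fin n) ⊕ Fin n × Fin n) ℤ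
  let A : Sym2 (Fin n) → S := fun p => MvPolynomial.X (Sum.inl p)
  let Γ : Matrix (Fin n) (Fin n) S := of fun i j => MvPolynomial.X (Sum.inr (i, j))
  have h : hd (transform A Γ) = Γ.det ^ 2 * hd A := by
    refine mul_left_cancel₀ (show (2 : S) ≠ 0 from fun h0 => by
      have := congrArg (MvPolynomial.coeff 0) h0
      rw [show (2 : S) = MvPolynomial.C 2 from (map_ofNat _ 2).symm, MvPolynomial.coeff_C, if_pos rfl,
        MvPolynomial.coeff_zero] at this
      exact absurd this (by norm_num)) ?_
    rw [mul_left_comm, two_mul_hd hn, two_mul_hd hn, polarMat_transform, det_mul, det_mul, det_transpose]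
    ring
  let φ : S →+* R := MvPolynomial.eval₂Hom (Int.castRingHom R) (Sum.elim a fun ij => G ij.1 ij.2)
  have hA : (fun q => φ (A q)) = a := funext fun q => MvPolynomial.eval₂_X _ _ _
  have hG : Γ.map φ = G := Matrix.ext fun i j => MvPolynomial.eval₂_X _ _ _
  have h' := congrArg φ h
  simp only [map_hd, map_transform, map_mul, map_pow, RingHom.map_det, RingHom.mapMatrix_apply, hA, hG] at h'
  exact h'

end Table

variable {R : Type u} [CommRing R] {M : Type v} [AddCommGroup M] [Module R M] {n : ℕ}
  (b : Module.Basis (Fin n) R M) (Q : QuadraticForm R M)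

theorem toBilin_basis (i j : Fin n) :
    QuadraticMap.toBilin Q b (b i) (b j) = triMat (coeffs b (LinearEquiv.refl R R) Q) i j := by
  rw [QuadraticMap.toBilin_apply, triMat, of_apply, coeffs_mk]
  rcases lt_trichotomy i j with h | rfl | h
  · simp [h, h.le, h.ne]
  · simp
  · simp [h.not_gt, h.not_ge, h.ne']

theorem coeffs_comp (g : M →ₗ[R] M) :
    coeffs b (LinearEquiv.refl R R) (Q.comp g) =
      transform (coeffs b (LinearEquiv.refl R R) Q) (LinearMap.toMatrix b b g) := by
  set G := LinearMap.toMatrix b b g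
  set B := QuadraticMap.toBilin Q b with hB
  have hQ : ∀ x, Q x = B x x := fun x => by
    conv_lhs => rw [← QuadraticMap.toQuadraticMap_toBilin Q b]
    rfl
  have hBg : ∀ k l, B (g (b k)) (g (b l)) = (Gᵀ * triMat (coeffs b (LinearEquiv.refl R R) Q) * G) k l := by
    intro k l
    rw [← b.sum_repr (g (b k)), ← b.sum_repr (g (b l))]
    simp only [map_sum, LinearMap.map_smul₂, map_smul, LinearMap.coe_sum, Finset.sum_apply, smul_eq_mul,
      hB, toBilin_basis, Matrix.mul_apply, transpose_apply, Finset.sum_mul, G, LinearMap.toMatrix_apply,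
      LinearMap.smul_apply, Finset.mul_sum]
    exact Finset.sum_congr rfl fun i _ => Finset.sum_congr rfl fun j _ => by ring
  funext p
  induction p using Sym2.ind with
  | _ k l =>
    rw [coeffs_mk, transform_mk]
    split_ifs with h
    · subst h
      rw [LinearEquiv.refl_apply, QuadraticMap.comp_apply, hQ, hBg]
    · rw [LinearEquiv.refl_apply, QuadraticMap.polar, QuadraticMap.comp_apply, QuadraticMap.comp_apply,
        QuadraticMap.comp_apply, map_add, hQ, hQ (g (b k)), hQ (g (b l))]
      simp only [map_add, LinearMap.add_apply, ← hBg]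
      abel

theorem halfDisc_comp (hn : Odd n) (g : M →ₗ[R] M) :
    halfDisc b (LinearEquiv.refl R R) (Q.comp g) =
      LinearMap.det g ^ 2 * halfDisc b (LinearEquiv.refl R R) Q := by
  have := hd_transform hn (coeffs b (LinearEquiv.refl R R) Q) (LinearMap.toMatrix b b g)
  rw [← coeffs_comp, LinearMap.det_toMatrix] at this
  exact this

theorem two_mul_halfDisc (hn : Odd n) :
    2 * halfDisc b (LinearEquiv.refl R R) Q = (polarMat (coeffs b (LinearEquiv.refl R R) Q)).det :=
  two_mul_hd hn _

end GrothLib.QuadHalfDisc
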