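import Groth.Agent.Lib.QuadGrp.HalfDisc
import Mathlib.LinearAlgebra.Matrix.Adjugate
import Mathlib.LinearAlgebra.Matrix.Trace
import Mathlib.Algebra.TrivSqZeroExt.Basic
import Mathlib.RingTheory.Ideal.Maximal

/-!
# Lifting changes of coordinates preserving a coefficient table

`GrothLib.QuadTable`: the linear algebra behind the smoothness of orthogonal groups:
`exists_solve` (the equation `tab (P Y) = δ`, `tr Y = τ` in odd rank with unit half-discriminant),
`hd_add` (the differential of the half-discriminant), `obstruction` (failure of lifting in odd rank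
and characteristic two).
-/

set_option autoImplicit false

namespace GrothLib.QuadTable

open Matrix GrothLib.QuadHalfDisc

variable {A : Type*} [CommRing A] {n : ℕ}

/-- The coefficient table of the form `x ↦ xᵀ M x`. -/
def tab (M : Matrix (Fin n) (Fin n) A) : Sym2 (Fin n) → A :=
  Sym2.lift ⟨fun k l => if k = l then M k l else M k l + M l k, fun k l => by
    by_cases h : k = l
    · subst h; rfl
    · dsimp only
      rw [if_neg h, if_neg (Ne.symm h), add_comm]⟩

theorem tab_mk (M : Matrix (Fin n) (Fin n) A) (k l : Fin n) :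
    tab M (Sym2.mk k l) = if k = l then M k l else M k l + M l k := rfl

theorem transform_eq (a : Sym2 (Fin n) → A) (G : Matrix (Fin n) (Fin n) A) :
    transform a G = tab (Gᵀ * triMat a * G) := rfl

theorem tab_add (M N : Matrix (Fin n) (Fin n) A) : tab (M + N) = tab M + tab N := by
  funext p
  induction p using Sym2.ind with
  | _ k l => simp only [Pi.add_apply, tab_mk, Matrix.add_apply]; split_ifs <;> ring

theorem tab_smul (c : A) (M : Matrix (Fin n) (Fin n) A) : tab (c • M) = c • tab M := by
  funext p
  induction p using Sym2.ind with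
  | _ k l => simp only [Pi.smul_apply, tab_mk, Matrix.smul_apply, smul_eq_mul]; split_ifs <;> ring

theorem tab_zero : tab (0 : Matrix (Fin n) (Fin n) A) = 0 := by
  simpa using tab_smul (0 : A) (0 : Matrix (Fin n) (Fin n) A)

theorem tab_sub (M N : Matrix (Fin n) (Fin n) A) : tab (M - N) = tab M - tab N :=
  eq_sub_of_add_eq (by rw [← tab_add, sub_add_cancel])

theorem tab_transpose (M : Matrix (Fin n) (Fin n) A) : tab Mᵀ = tab M := by
  funext p
  induction p using Sym2.ind with
  | _ k l =>
    simp only [tab_mk, transpose_apply]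
    split_ifs with h
    · rw [h]
    · ring

theorem tab_triMat (a : Sym2 (Fin n) → A) : tab (triMat a) = a := by
  funext p
  induction p using Sym2.ind with
  | _ k l =>
    simp only [tab_mk, triMat, of_apply]
    rcases lt_trichotomy k l with h | rfl | h
    · simp [h.ne, h.le, h.not_ge]
    · simp
    · simp [h.ne', h.le, h.not_ge, Sym2.eq_swap (a := l) (b := k)]

theorem triMat_add (a b : Sym2 (Fin n) → A) : triMat (a + b) = triMat a + triMat b := by
  ext i j; simp only [triMat, of_apply, Matrix.add_apply, Pi.add_apply]; split_ifs <;> simp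

theorem triMat_smul (c : A) (a : Sym2 (Fin n) → A) : triMat (c • a) = c • triMat a := by
  ext i j; simp only [triMat, of_apply, Matrix.smul_apply, Pi.smul_apply]; split_ifs <;> simp

theorem triMat_map {B : Type*} [CommRing B] (f : A →+* B) (a : Sym2 (Fin n) → A) :
    (triMat a).map f = triMat fun p => f (a p) := by
  ext i j; simp only [triMat, of_apply, map_apply]; split_ifs <;> simp

theorem polarMat_map {B : Type*} [CommRing B] (f : A →+* B) (a : Sym2 (Fin n) → A) :
    (polarMat a).map f = polarMat fun p => f (a p) := by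
  ext i j; simp only [polarMat, of_apply, map_apply]; split_ifs <;> simp [map_ofNat]

theorem polarMat_add (a b : Sym2 (Fin n) → A) : polarMat (a + b) = polarMat a + polarMat b := by
  rw [← triMat_add_transpose, ← triMat_add_transpose, ← triMat_add_transpose, triMat_add,
    transpose_add]
  abel

theorem transpose_polarMat (a : Sym2 (Fin n) → A) : (polarMat a)ᵀ = polarMat a := by
  rw [← triMat_add_transpose, transpose_add, transpose_transpose, add_comm]

theorem adjugate_symm (a : Sym2 (Fin n) → A) : (adjugate (polarMat a))ᵀ = adjugate (polarMat a) := by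
  rw [adjugate_transpose, transpose_polarMat]

theorem adjugate_symm_apply (a : Sym2 (Fin n) → A) (i j : Fin n) :
    adjugate (polarMat a) i j = adjugate (polarMat a) j i :=
  congrFun (congrFun (adjugate_symm a) j) i

/-- A matrix with the same table differs by an alternating matrix. -/
theorem exists_alt {M N : Matrix (Fin n) (Fin n) A} (h : tab M = tab N) :
    ∃ U : Matrix (Fin n) (Fin n) A, M = N + (U - Uᵀ) := by
  refine ⟨of fun i j => if i < j then M i j - N i j else 0, ?_⟩
  ext i j
  have e := congrFun h (Sym2.mk i j)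
  rw [tab_mk, tab_mk] at e
  simp only [Matrix.add_apply, Matrix.sub_apply, of_apply, transpose_apply]
  rcases lt_trichotomy i j with h | rfl | h
  · simp [h, h.not_gt]
  · simpa using e
  · rw [if_neg h.not_gt, if_pos h]
    rw [if_neg h.ne', if_neg h.ne'] at e
    linear_combination e

theorem tab_conj_congr {M N : Matrix (Fin n) (Fin n) A} (h : tab M = tab N)
    (H : Matrix (Fin n) (Fin n) A) : tab (Hᵀ * M * H) = tab (Hᵀ * N * H) := by
  obtain ⟨U, rfl⟩ := exists_alt h
  have e : Hᵀ * Uᵀ * H = (Hᵀ * U * H)ᵀ := by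
    rw [transpose_mul, transpose_mul, transpose_transpose, Matrix.mul_assoc]
  rw [Matrix.mul_add, Matrix.mul_sub, Matrix.add_mul, Matrix.sub_mul, e, tab_add, tab_sub,
    tab_transpose, sub_self, add_zero]

theorem trace_symm_tab {D : Matrix (Fin n) (Fin n) A} (hD : Dᵀ = D) (M : Matrix (Fin n) (Fin n) A) :
    (D * triMat (tab M)).trace = (D * M).trace := by
  obtain ⟨U, hU⟩ := exists_alt (tab_triMat (tab M))
  have e : (D * Uᵀ).trace = (D * U).trace := by
    rw [← trace_transpose (D * Uᵀ), transpose_mul, transpose_transpose, hD, trace_mul_comm]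
  rw [hU, Matrix.mul_add, Matrix.mul_sub, trace_add, trace_sub, e, sub_self, add_zero]

theorem transform_mul (a : Sym2 (Fin n) → A) (G H : Matrix (Fin n) (Fin n) A) :
    transform a (G * H) = transform (transform a G) H := by
  have e : (G * H)ᵀ * triMat a * (G * H) = Hᵀ * (Gᵀ * triMat a * G) * H := by
    rw [transpose_mul]; simp only [Matrix.mul_assoc]
  rw [transform_eq, e, transform_eq (transform a G) H]
  exact tab_conj_congr (tab_triMat (transform a G)).symm H

section SqZero

variable (I : Ideal A)

theorem tab_mem {M : Matrix (Fin n) (Fin n) A} (h : ∀ i j, M i j ∈ I) (p) : tab M p ∈ I := by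
  induction p using Sym2.ind with
  | _ k l =>
    rw [tab_mk]
    split_ifs
    exacts [h _ _, add_mem (h _ _) (h _ _)]

theorem triMat_mem {δ : Sym2 (Fin n) → A} (h : ∀ p, δ p ∈ I) (i j : Fin n) : triMat δ i j ∈ I := by
  simp only [triMat, of_apply]
  split_ifs
  exacts [h _, zero_mem I]

theorem mul_mem_right_matrix {M N : Matrix (Fin n) (Fin n) A} (h : ∀ i j, N i j ∈ I) (i j : Fin n) :
    (M * N) i j ∈ I :=
  Matrix.mul_apply (M := M) (N := N) ▸ Submodule.sum_mem I fun k _ => Ideal.mul_mem_left I _ (h k j)

variable (hI : ∀ x ∈ I, ∀ y ∈ I, x * y = (0 : A))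

include hI

theorem mul_eq_zero_of_mem {M N : Matrix (Fin n) (Fin n) A} (hM : ∀ i j, M i j ∈ I)
    (hN : ∀ i j, N i j ∈ I) : M * N = 0 := by
  ext i j
  rw [Matrix.mul_apply, Matrix.zero_apply]
  exact Finset.sum_eq_zero fun k _ => hI _ (hM i k) _ (hN k j)

theorem transform_one_add (a : Sym2 (Fin n) → A) {Y : Matrix (Fin n) (Fin n) A}
    (hY : ∀ i j, Y i j ∈ I) : transform a (1 + Y) = a + tab (polarMat a * Y) := by
  have h0 : Yᵀ * triMat a * Y = 0 := by
    rw [Matrix.mul_assoc]
    exact mul_eq_zero_of_mem I hI (fun i j => hY j i) (mul_mem_right_matrix I hY)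
  have e : (1 + Y)ᵀ * triMat a * (1 + Y) =
      triMat a + (Yᵀ * triMat a + triMat a * Y) + Yᵀ * triMat a * Y := by
    simp only [transpose_add, transpose_one, Matrix.add_mul, Matrix.mul_add, Matrix.one_mul,
      Matrix.mul_one]
    abel
  have e' : tab (Yᵀ * triMat a) = tab ((triMat a)ᵀ * Y) := by
    rw [← tab_transpose (Yᵀ * triMat a), transpose_mul, transpose_transpose]
  rw [transform_eq, e, h0, add_zero, tab_add, tab_triMat, tab_add, e', ← tab_add, ← Matrix.add_mul,
    add_comm (triMat a)ᵀ, triMat_add_transpose]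

theorem polarMat_add_mul {a δ : Sym2 (Fin n) → A} (hδ : ∀ p, δ p ∈ I) {Y : Matrix (Fin n) (Fin n) A}
    (hY : ∀ i j, Y i j ∈ I) : polarMat (a + δ) * Y = polarMat a * Y := by
  rw [polarMat_add, Matrix.add_mul,
    mul_eq_zero_of_mem I hI (M := polarMat δ) (fun i j => ?_) hY, add_zero]
  rw [← triMat_add_transpose]
  exact add_mem (triMat_mem I hδ i j) (triMat_mem I hδ j i)

theorem det_add_sqZero (P Δ : Matrix (Fin n) (Fin n) A) (hΔ : ∀ i j, Δ i j ∈ I) :
    (P + Δ).det = P.det + (adjugate P * Δ).trace := by
  classical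
  let M : Finset (Fin n) → Matrix (Fin n) (Fin n) A := fun s =>
    of fun i j => P i j + if i ∈ s then Δ i j else 0
  suffices h : ∀ s, (M s).det = P.det + ∑ i ∈ s, ∑ j, Δ i j * adjugate P j i by
    have h1 : M Finset.univ = P + Δ := by ext i j; simp [M]
    rw [← h1, h Finset.univ, trace_mul_comm]
    rfl
  intro s
  induction s using Finset.induction_on with
  | empty => rw [Finset.sum_empty, add_zero]; congr 1; ext i j; simp [M]
  | insert i s hi ih =>
    have h1 : M (insert i s) = (M s).updateRow i (M s i + Δ i) := by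
      ext k j
      rcases eq_or_ne k i with rfl | hk
      · simp [M, hi]
      · simp [M, hk]
    have h2 : ((M s).updateRow i (Δ i)).det = ∑ j, Δ i j * adjugate (M s) j i := by
      rw [det_eq_sum_mul_adjugate_row _ i]
      refine Finset.sum_congr rfl fun j _ => ?_
      rw [updateRow_self, adjugate_apply, adjugate_apply, Matrix.updateRow_idem]
    have h3 : ∀ j, Δ i j * adjugate (M s) j i = Δ i j * adjugate P j i := by
      intro j
      let K : Ideal A := LinearMap.ker (LinearMap.mulLeft A (Δ i j))
      have hK : (M s).map (Ideal.Quotient.mk K) = P.map (Ideal.Quotient.mk K) := by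
        ext k l
        refine Ideal.Quotient.eq.2 ?_
        change Δ i j * (M s k l - P k l) = 0
        simp only [M, of_apply, add_sub_cancel_left]
        split_ifs
        exacts [hI _ (hΔ i j) _ (hΔ k l), mul_zero _]
      have h4 : (adjugate (M s)).map (Ideal.Quotient.mk K) = (adjugate P).map (Ideal.Quotient.mk K) := by
        have := congrArg adjugate hK
        rw [← RingHom.mapMatrix_apply, ← RingHom.mapMatrix_apply, ← RingHom.map_adjugate,
          ← RingHom.map_adjugate] at this
        exact this
      have h5 : Δ i j * (adjugate (M s) j i - adjugate P j i) = 0 :=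
        Ideal.Quotient.eq.1 (congrFun (congrFun h4 j) i)
      linear_combination h5
    rw [h1, det_updateRow_add, updateRow_eq_self, ih, h2, Finset.sum_insert hi,
      Finset.sum_congr rfl fun j _ => h3 j]
    abel

theorem det_one_add {Y : Matrix (Fin n) (Fin n) A} (hY : ∀ i j, Y i j ∈ I) :
    (1 + Y).det = 1 + Y.trace := by
  rw [det_add_sqZero I hI 1 Y hY, det_one, adjugate_one, Matrix.one_mul]

end SqZero

section HalfDiscriminant

theorem mul_adjugate_odd (hn : Odd n) (a : Sym2 (Fin n) → A) :
    polarMat a * adjugate (polarMat a) = (2 * hd a) • (1 : Matrix (Fin n) (Fin n) A) := by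
  rw [mul_adjugate, two_mul_hd hn]

theorem adjugate_mul_odd (hn : Odd n) (a : Sym2 (Fin n) → A) :
    adjugate (polarMat a) * polarMat a = (2 * hd a) • (1 : Matrix (Fin n) (Fin n) A) := by
  rw [adjugate_mul, two_mul_hd hn]

/-- Euler's identity for the half-discriminant. -/
theorem trace_adjugate_triMat (hn : Odd n) (a : Sym2 (Fin n) → A) :
    (adjugate (polarMat a) * triMat a).trace = n * hd a := by
  let U := MvPolynomial (Sym2 (Fin n)) ℤ
  let X : Sym2 (Fin n) → U := fun p => MvPolynomial.X p
  have h : (adjugate (polarMat X) * triMat X).trace = n * hd X := by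
    refine mul_left_cancel₀ (two_ne_zero' U) ?_
    have h1 := congrArg Matrix.trace (adjugate_mul_odd hn X)
    have e : (adjugate (polarMat X) * (triMat X)ᵀ).trace = (adjugate (polarMat X) * triMat X).trace := by
      rw [← trace_transpose, transpose_mul, transpose_transpose, adjugate_symm, trace_mul_comm]
    conv at h1 => lhs; arg 1; arg 2; rw [← triMat_add_transpose]
    rw [Matrix.mul_add, trace_add, e, trace_smul, trace_one, Fintype.card_fin, smul_eq_mul] at h1
    linear_combination h1
  let φ : U →+* A := MvPolynomial.eval₂Hom (Int.castRingHom A) a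
  have hX : (fun p => φ (X p)) = a := funext fun p => MvPolynomial.eval₂_X _ _ _
  have h' := congrArg φ h
  rw [AddMonoidHom.map_trace, Matrix.map_mul, ← RingHom.mapMatrix_apply, RingHom.map_adjugate,
    RingHom.mapMatrix_apply, polarMat_map, triMat_map, map_mul, map_natCast, map_hd, hX] at h'
  exact h'

/-- The differential of the half-discriminant. -/
theorem hd_add (hn : Odd n) (a δ : Sym2 (Fin n) → A) (hδ : ∀ p q, δ p * δ q = 0) :
    hd (a + δ) = hd a + (adjugate (polarMat a) * triMat δ).trace := by
  let U := MvPolynomial (Sym2 (Fin n)) ℤ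
  let S := TrivSqZeroExt U (Sym2 (Fin n) → U)
  let x : Sym2 (Fin n) → S := fun p => TrivSqZeroExt.inl (MvPolynomial.X p)
  let e : Sym2 (Fin n) → S := fun p => TrivSqZeroExt.inr (Pi.single p 1)
  let I : Ideal S := RingHom.ker (TrivSqZeroExt.fstHom U U (Sym2 (Fin n) → U)).toRingHom
  have hI : ∀ u ∈ I, ∀ v ∈ I, u * v = (0 : S) := fun u hu v hv => by
    replace hu : u.fst = 0 := hu
    replace hv : v.fst = 0 := hv
    refine TrivSqZeroExt.ext ?_ ?_
    · rw [TrivSqZeroExt.fst_mul, hu, zero_mul]; rfl
    · rw [TrivSqZeroExt.snd_mul, hu, hv, MulOpposite.op_zero, zero_smul, zero_smul, add_zero]; rfl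
  have he : ∀ p, e p ∈ I := fun p => TrivSqZeroExt.fst_inr U (Pi.single p 1 : Sym2 (Fin n) → U)
  have h : hd (x + e) = hd x + (adjugate (polarMat x) * triMat e).trace := by
    have h2 : ∀ u v : S, 2 * u = 2 * v → u = v := fun u v huv => by
      rw [two_mul, two_mul] at huv
      refine TrivSqZeroExt.ext ?_ (funext fun p => ?_)
      · have := congrArg TrivSqZeroExt.fst huv
        replace this : u.fst + u.fst = v.fst + v.fst := this
        rw [← two_mul, ← two_mul] at this
        exact mul_left_cancel₀ (two_ne_zero' U) this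
      · have := congrFun (congrArg TrivSqZeroExt.snd huv) p
        replace this : u.snd p + u.snd p = v.snd p + v.snd p := this
        rw [← two_mul, ← two_mul] at this
        exact mul_left_cancel₀ (two_ne_zero' U) this
    have hΔ : ∀ i j, polarMat e i j ∈ I := fun i j => by
      rw [← triMat_add_transpose]
      exact add_mem (triMat_mem I he i j) (triMat_mem I he j i)
    have e' : (adjugate (polarMat x) * (triMat e)ᵀ).trace = (adjugate (polarMat x) * triMat e).trace := by
      rw [← trace_transpose, transpose_mul, transpose_transpose, adjugate_symm, trace_mul_comm]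
    apply h2
    rw [two_mul_hd hn, polarMat_add, det_add_sqZero I hI _ _ hΔ, ← two_mul_hd hn, mul_add,
      ← triMat_add_transpose e, Matrix.mul_add, trace_add, e']
    ring
  let _ : Algebra U A := (MvPolynomial.eval₂Hom (Int.castRingHom A) a).toAlgebra
  let φ : S →ₐ[U] A := TrivSqZeroExt.lift (Algebra.ofId U A) (Fintype.linearCombination U δ)
    (fun u v => by
      rw [Fintype.linearCombination_apply, Fintype.linearCombination_apply, Finset.sum_mul_sum]
      exact Finset.sum_eq_zero fun p _ => Finset.sum_eq_zero fun q _ => by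
        rw [smul_mul_smul_comm, hδ, smul_zero])
    (fun r u => by rw [map_smul, Algebra.smul_def]; rfl)
    (fun r u => by rw [op_smul_eq_smul, map_smul, Algebra.smul_def, mul_comm]; rfl)
  have hx : (fun p => φ (x p)) = a := funext fun p => by
    exact (TrivSqZeroExt.lift_apply_inl _ _ _ _ _ _).trans (MvPolynomial.eval₂_X _ _ _)
  have hε : (fun p => φ (e p)) = δ := funext fun p => by
    exact (TrivSqZeroExt.lift_apply_inr _ _ _ _ _ _).trans
      ((Fintype.linearCombination_apply_single U δ p (1 : U)).trans (one_smul U (δ p)))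
  have h' := congrArg φ.toRingHom h
  rw [map_add, map_hd, map_hd, AddMonoidHom.map_trace, Matrix.map_mul, ← RingHom.mapMatrix_apply,
    RingHom.map_adjugate, RingHom.mapMatrix_apply, polarMat_map, triMat_map] at h'
  have hxe : (fun p => φ.toRingHom ((x + e) p)) = a + δ := by
    rw [← hx, ← hε]; exact funext fun p => map_add φ (x p) (e p)
  rw [hxe] at h'
  simp only [AlgHom.toRingHom_eq_coe, RingHom.coe_coe, hx, hε] at h'
  exact h'

end HalfDiscriminant

section Solve

/-- A vector with vanishing `q`-th coordinate, times a minor, is read off from its image. -/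
theorem minor_smul (P : Matrix (Fin n) (Fin n) A) (q j : Fin n) {z : Fin n → A} (hz : z q = 0) :
    adjugate P q j • z =
      adjugate (P.updateRow j (Pi.single q 1)) *ᵥ Function.update (P *ᵥ z) j 0 := by
  have h : P.updateRow j (Pi.single q 1) *ᵥ z = Function.update (P *ᵥ z) j 0 := by
    ext i
    rcases eq_or_ne i j with rfl | hi
    · simp [Matrix.mulVec, hz]
    · simp [Matrix.mulVec, hi]
  rw [← h, Matrix.mulVec_mulVec, adjugate_mul, smul_mulVec, one_mulVec, adjugate_apply]

variable (hn : Odd n) (a : Sym2 (Fin n) → A)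

include hn

/-- Modulo two the adjugate of the polar matrix has rank one. -/
theorem exists_minor (q j i l : Fin n) :
    ∃ c, adjugate (polarMat a) q j * (adjugate (polarMat a) q j * adjugate (polarMat a) i l -
      adjugate (polarMat a) q l * adjugate (polarMat a) i j) = 2 * c := by
  set D := adjugate (polarMat a) with hD
  let z : Fin n → A := fun k => D q j * D k l - D q l * D k j
  have hPD := mul_adjugate_odd hn a
  rw [← hD] at hPD
  have hPz : polarMat a *ᵥ z =
      (2 * hd a) • (D q j • Pi.single l 1 - D q l • Pi.single j 1) := by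
    ext k
    have e : ∀ m, ∑ x, polarMat a k x * D x m = (2 * hd a) * (1 : Matrix (Fin n) (Fin n) A) k m :=
      fun m => congrFun (congrFun hPD k) m
    calc (polarMat a *ᵥ z) k = D q j * (∑ x, polarMat a k x * D x l) -
          D q l * (∑ x, polarMat a k x * D x j) := by
            simp only [Matrix.mulVec, dotProduct, z, Finset.mul_sum, ← Finset.sum_sub_distrib]
            exact Finset.sum_congr rfl fun x _ => by ring
      _ = _ := by
            rw [e, e]
            simp [Matrix.one_apply, Pi.single_apply]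
            split_ifs <;> ring
  have hu : Function.update (polarMat a *ᵥ z) j 0 =
      (2 * hd a) • Function.update (D q j • Pi.single l 1 - D q l • Pi.single j 1) j 0 := by
    rw [hPz, ← Function.update_smul, smul_zero]
  have h := congrFun (minor_smul (polarMat a) q j (z := z) (sub_eq_zero.2 (mul_comm _ _))) i
  rw [hu, mulVec_smul, Pi.smul_apply, Pi.smul_apply, smul_eq_mul, smul_eq_mul, mul_assoc 2] at h
  exact ⟨_, h⟩

variable (hh : IsUnit (hd a))

include hh

/-- At a prime containing two some diagonal entry of the adjugate is a unit. -/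
theorem exists_diag_notMem (𝔭 : Ideal A) [𝔭.IsPrime] (h2 : (2 : A) ∈ 𝔭) :
    ∃ p, adjugate (polarMat a) p p ∉ 𝔭 := by
  by_contra hne
  push Not at hne
  set D := adjugate (polarMat a) with hD
  have hall : ∀ q j, D q j ∈ 𝔭 := by
    intro q j
    obtain ⟨c, hc⟩ := exists_minor hn a q j j q
    rw [← hD] at hc
    have e : D q j * D q j * D q j = 2 * c + D q j * D q q * D j j := by
      have s : D j q = D q j := adjugate_symm_apply a j q
      rw [s] at hc
      linear_combination hc
    have : D q j ^ 3 ∈ 𝔭 := by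
      rw [pow_three', e]
      exact add_mem (Ideal.mul_mem_right _ _ h2) (Ideal.mul_mem_left _ _ (hne j))
    exact Ideal.IsPrime.mem_of_pow_mem inferInstance 3 this
  have h : (n : A) * hd a ∈ 𝔭 := by
    rw [← trace_adjugate_triMat hn a, trace_mul_comm]
    exact Submodule.sum_mem _ fun i _ => mul_mem_right_matrix 𝔭 hall i i
  obtain ⟨m, rfl⟩ := hn
  rw [Ideal.mul_unit_mem_iff_mem 𝔭 hh, Nat.cast_add, Nat.cast_mul, Nat.cast_two, Nat.cast_one] at h
  refine (inferInstance : 𝔭.IsPrime).ne_top ((Ideal.eq_top_iff_one _).2 ?_)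
  exact (Ideal.add_mem_iff_right 𝔭 (Ideal.mul_mem_right _ _ h2)).1 h

/-- The linear equation to solve when lifting a point of the special orthogonal group. -/
theorem exists_solve (I : Ideal A) (δ : Sym2 (Fin n) → A) (hδ : ∀ p, δ p ∈ I) (τ : A) (hτ : τ ∈ I)
    (hc : (adjugate (polarMat a) * triMat δ).trace = 2 * hd a * τ) :
    ∃ Y : Matrix (Fin n) (Fin n) A,
      (∀ i j, Y i j ∈ I) ∧ tab (polarMat a * Y) = δ ∧ Y.trace = τ := by
  classical
  let J : Ideal A :=
    { carrier := {r | ∃ Y : Matrix (Fin n) (Fin n) A,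
        (∀ i j, Y i j ∈ I) ∧ tab (polarMat a * Y) = r • δ ∧ Y.trace = r * τ}
      zero_mem' := ⟨0, fun i j => I.zero_mem, by simp [tab_zero], by simp⟩
      add_mem' := by
        rintro r s ⟨Y, hY, h1, h2⟩ ⟨Z, hZ, h3, h4⟩
        exact ⟨Y + Z, fun i j => I.add_mem (hY i j) (hZ i j),
          by rw [Matrix.mul_add, tab_add, h1, h3, add_smul], by rw [trace_add, h2, h4, add_mul]⟩
      smul_mem' := by
        rintro c r ⟨Y, hY, h1, h2⟩
        exact ⟨c • Y, fun i j => I.mul_mem_left c (hY i j),
          by rw [Matrix.mul_smul, tab_smul, h1, smul_eq_mul, mul_smul],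
          by rw [trace_smul, h2, smul_eq_mul, smul_eq_mul, mul_assoc]⟩ }
  suffices h1 : (1 : A) ∈ J by
    obtain ⟨Y, hY, e1, e2⟩ := h1
    exact ⟨Y, hY, by rw [e1, one_smul], by rw [e2, one_mul]⟩
  obtain ⟨u, hu⟩ := hh.exists_left_inv
  set P := polarMat a with hP
  set D := adjugate P with hD
  set Z := triMat δ
  have hZ : ∀ i j, Z i j ∈ I := triMat_mem I hδ
  have hPD : P * D = (2 * hd a) • 1 := mul_adjugate_odd hn a
  have hDP : D * P = (2 * hd a) • 1 := adjugate_mul_odd hn a
  have hsym : ∀ i j, D i j = D j i := adjugate_symm_apply a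
  have h2J : (2 : A) ∈ J := by
    refine ⟨u • (D * Z), fun i j => I.mul_mem_left u (mul_mem_right_matrix I hZ i j), ?_, ?_⟩
    · rw [Matrix.mul_smul, ← Matrix.mul_assoc, hPD, Matrix.smul_mul, Matrix.one_mul, smul_smul,
        tab_smul, tab_triMat, show u * (2 * hd a) = 2 by linear_combination 2 * hu]
    · rw [trace_smul, hc, smul_eq_mul]
      linear_combination 2 * τ * hu
  by_contra h1
  obtain ⟨𝔭, hmax, hle⟩ := Ideal.exists_le_maximal J fun e => h1 (e ▸ Submodule.mem_top)
  obtain ⟨p, hp⟩ := exists_diag_notMem hn a hh 𝔭 (hle h2J)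
  refine hp (hmax.isPrime.mem_of_pow_mem 4 (hle ?_))
  rw [← hP, ← hD]
  set d := D p p with hd'
  set r : Fin n → A := fun i => D i p with hr
  choose c hcc using fun i l => exists_minor hn a p p i l
  have hdD : ∀ i l, d * (d * D i l - r l * r i) = 2 * c i l := fun i l => by
    simp only [r, hsym l p]; exact hcc i l
  let w : Fin n → A := fun l => ∑ i, r i * Z i l
  let e : A := ∑ l, r l * w l
  have hw : ∀ l, w l ∈ I := fun l => I.sum_mem fun i _ => I.mul_mem_left _ (hZ i l)
  let e' : A := d ^ 2 * (hd a * τ) - ∑ i, ∑ l, c i l * Z i l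
  have he' : e' ∈ I := I.sub_mem (I.mul_mem_left _ (I.mul_mem_left _ hτ))
    (I.sum_mem fun i _ => I.sum_mem fun l _ => I.mul_mem_left _ (hZ i l))
  have hde : d * e = 2 * e' := by
    have hDZ : ∑ i, ∑ l, D i l * Z i l = 2 * hd a * τ := by
      rw [← hc, Matrix.trace, Finset.sum_comm]
      exact Finset.sum_congr rfl fun i _ => Finset.sum_congr rfl fun l _ => by rw [hsym]
    calc d * e = ∑ i, ∑ l, (d * (r l * r i)) * Z i l := by
          simp only [e, w, Finset.mul_sum]
          rw [Finset.sum_comm]
          exact Finset.sum_congr rfl fun i _ => Finset.sum_congr rfl fun l _ => by ring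
      _ = ∑ i, ∑ l, (d ^ 2 * (D i l * Z i l) - 2 * (c i l * Z i l)) :=
          Finset.sum_congr rfl fun i _ => Finset.sum_congr rfl fun l _ => by
            linear_combination -(Z i l) * hdD i l
      _ = _ := by
          simp only [e', Finset.sum_sub_distrib, ← Finset.mul_sum, hDZ]
          ring
  let W : Matrix (Fin n) (Fin n) A := of fun i j => if j = p then w i else 0
  let X : Matrix (Fin n) (Fin n) A := d • Z + (W - Wᵀ)
  have hX : ∀ i j, X i j ∈ I := fun i j => by
    refine I.add_mem (I.mul_mem_left _ (hZ i j)) (I.sub_mem ?_ ?_) <;>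
      · simp only [W, of_apply, transpose_apply]
        split_ifs
        exacts [hw _, I.zero_mem]
  have htabX : tab X = d • δ := by
    simp only [X, tab_add, tab_sub, tab_transpose, sub_self, add_zero, tab_smul]
    rw [tab_triMat]
  have hrX : ∀ l, ∑ i, r i * X i l = if l = p then e else 0 := by
    intro l
    have t1 : ∑ i, r i * (d * Z i l) = d * w l := by
      rw [Finset.mul_sum]; exact Finset.sum_congr rfl fun i _ => by ring
    have t2 : ∑ i, r i * W i l = if l = p then e else 0 := by
      simp only [W, of_apply]; split_ifs <;> simp [e]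
    have t3 : ∑ i, r i * Wᵀ i l = d * w l := by
      simp [W, r, d]
    calc ∑ i, r i * X i l
        = ∑ i, r i * (d * Z i l) + (∑ i, r i * W i l - ∑ i, r i * Wᵀ i l) := by
          simp only [← Finset.sum_sub_distrib, ← Finset.sum_add_distrib]
          exact Finset.sum_congr rfl fun i _ => by simp [X]; ring
      _ = _ := by rw [t1, t2, t3]; ring
  set N := P.updateRow p (Pi.single p 1) with hN
  let Y0 : Matrix (Fin n) (Fin n) A := adjugate N * X.updateRow p 0
  have hY0 : ∀ i j, Y0 i j ∈ I := mul_mem_right_matrix I fun i j => by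
    rw [updateRow_apply]; split_ifs
    exacts [I.zero_mem, hX i j]
  have hNY : N * Y0 = d • X.updateRow p 0 := by
    rw [← Matrix.mul_assoc, mul_adjugate, Matrix.smul_mul, Matrix.one_mul, hN, ← adjugate_apply]
  have hrow : ∀ l, Y0 p l = 0 := fun l => by
    have := congrFun (congrFun hNY p) l
    simpa [N, Matrix.mul_apply, Pi.single_apply] using this
  have hne : ∀ i, i ≠ p → ∀ l, (P * Y0) i l = d * X i l := fun i hi l => by
    have := congrFun (congrFun hNY i) l
    simpa [N, Matrix.mul_apply, Matrix.updateRow_ne hi] using this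
  have hr0 : ∀ l, ∑ i, r i * (P * Y0) i l = 0 := fun l => by
    have h : (D * (P * Y0)) p l = 0 := by
      rw [← Matrix.mul_assoc, hDP, Matrix.smul_mul, Matrix.one_mul, Matrix.smul_apply, hrow,
        smul_zero]
    rw [← h, Matrix.mul_apply]
    exact Finset.sum_congr rfl fun i _ => by simp only [r, hsym i p]
  have hPY0 : P * (d • Y0) = d ^ 2 • X - (2 * e') • Matrix.single p p 1 := by
    ext i l
    rw [Matrix.mul_smul, Matrix.smul_apply, smul_eq_mul, Matrix.sub_apply, Matrix.smul_apply,
      Matrix.smul_apply, smul_eq_mul, smul_eq_mul]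
    rcases eq_or_ne i p with rfl | hi
    · have hs : ∑ k, r k * ((P * Y0) k l - d * X k l) = r i * ((P * Y0) i l - d * X i l) :=
        Finset.sum_eq_single_of_mem i (Finset.mem_univ _) fun k _ hk => by rw [hne k hk, sub_self, mul_zero]
      have : ∑ k, r k * ((P * Y0) k l - d * X k l) = -(d * ∑ k, r k * X k l) := by
        simp only [mul_sub, Finset.sum_sub_distrib, hr0, zero_sub, Finset.mul_sum]
        exact congrArg Neg.neg (Finset.sum_congr rfl fun k _ => by ring)
      rw [hs, hrX] at this
      rcases eq_or_ne l i with rfl | hl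
      · rw [if_pos rfl] at this
        rw [Matrix.single_apply_same, ← hde]
        linear_combination this
      · rw [if_neg hl] at this
        rw [Matrix.single_apply_of_col_ne _ _ (Ne.symm hl)]
        linear_combination this
    · rw [hne i hi, Matrix.single_apply_of_row_ne (Ne.symm hi)]
      ring
  let E : Matrix (Fin n) (Fin n) A := D * Matrix.single p p 1
  have hPE : P * E = (2 * hd a) • Matrix.single p p 1 := by
    rw [← Matrix.mul_assoc, hPD, Matrix.smul_mul, Matrix.one_mul]
  have htrE : E.trace = d := by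
    simp [E, Matrix.trace_mul_single, d]
  let Y1 : Matrix (Fin n) (Fin n) A := d • Y0 + (e' * u) • E
  have hY1 : ∀ i j, Y1 i j ∈ I := fun i j =>
    I.add_mem (I.mul_mem_left _ (hY0 i j)) (I.mul_mem_right _ (I.mul_mem_right _ he'))
  have hPY1 : P * Y1 = d ^ 2 • X := by
    simp only [Y1, Matrix.mul_add, hPY0, Matrix.mul_smul, hPE, smul_smul]
    rw [show e' * u * (2 * hd a) = 2 * e' by linear_combination 2 * e' * hu, sub_add_cancel]
  have htab1 : tab (P * Y1) = d ^ 3 • δ := by
    rw [hPY1, tab_smul, htabX, smul_smul, ← pow_succ]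
  have htr1 : 2 * (d ^ 3 * τ - Y1.trace) = 0 := by
    have h3 : 2 * hd a * Y1.trace = d ^ 3 * (2 * hd a * τ) := by
      rw [← hc, ← smul_eq_mul (d ^ 3), ← trace_smul, ← Matrix.mul_smul, ← triMat_smul, ← htab1,
        trace_symm_tab (adjugate_symm a), ← Matrix.mul_assoc, hDP, Matrix.smul_mul, Matrix.one_mul,
        trace_smul, smul_eq_mul]
    linear_combination (-u) * h3 + (-2) * (d ^ 3 * τ - Y1.trace) * hu
  refine ⟨d • Y1 + (d ^ 3 * τ - Y1.trace) • E, fun i j => I.add_mem (I.mul_mem_left _ (hY1 i j))
    (I.mul_mem_right _ (I.sub_mem (I.mul_mem_left _ hτ) (I.sum_mem fun k _ => hY1 k k))), ?_, ?_⟩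
  · have h0 : (d ^ 3 * τ - Y1.trace) * (2 * hd a) = 0 := by linear_combination hd a * htr1
    rw [Matrix.mul_add, Matrix.mul_smul, Matrix.mul_smul, hPE, smul_smul, h0, zero_smul, add_zero,
      tab_smul, htab1, smul_smul, ← pow_succ']
  · rw [trace_add, trace_smul, trace_smul, htrE, smul_eq_mul, smul_eq_mul]
    ring

omit hh in
/-- In odd rank and characteristic two a point modulo `t ^ 2` which does not lift modulo `t ^ 3`. -/
theorem obstruction (h2 : (2 : A) = 0) (t : A) (ht : t ^ 3 = 0) (p : Fin n)
    (hne : t ^ 2 * (adjugate (polarMat a) p p ^ 2 * hd a) ≠ 0) :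
    ∃ g : Matrix (Fin n) (Fin n) A, IsUnit g.det ∧
      (∀ q, transform a g q - a q ∈ Ideal.span {t ^ 2}) ∧
      ∀ G : Matrix (Fin n) (Fin n) A, (∀ i j, G i j - g i j ∈ Ideal.span {t ^ 2}) → transform a G ≠ a := by
  classical
  set P := polarMat a with hP
  set D := adjugate P with hD
  set d := D p p with hd'
  set T := triMat a
  set I : Ideal A := Ideal.span {t ^ 2}
  have hI : ∀ x ∈ I, ∀ y ∈ I, x * y = (0 : A) := fun x hx y hy => by
    obtain ⟨u, rfl⟩ := Ideal.mem_span_singleton'.1 hx
    obtain ⟨v, rfl⟩ := Ideal.mem_span_singleton'.1 hy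
    linear_combination (u * v * t) * ht
  let M : Matrix (Fin n) (Fin n) A := D * Matrix.single p p 1
  have hPM : P * M = 0 := by
    rw [← Matrix.mul_assoc, hD, hP, mul_adjugate_odd hn, h2, zero_mul, zero_smul, Matrix.zero_mul]
  let qr : A := (D * T * D) p p
  have hMTM : Mᵀ * T * M = qr • Matrix.single p p 1 := by
    have e : Mᵀ * T * M = Matrix.single p p 1 * (D * T * D) * Matrix.single p p 1 := by
      simp only [M, transpose_mul, Matrix.transpose_single]
      rw [hD, hP, adjugate_symm]
      simp only [Matrix.mul_assoc]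
    rw [e, Matrix.single_mul_mul_single, one_mul, mul_one, Matrix.smul_single, smul_eq_mul, mul_one]
  let δ : Sym2 (Fin n) → A := tab ((t ^ 2 * qr) • Matrix.single p p 1)
  let g : Matrix (Fin n) (Fin n) A := 1 + t • M
  have hδI : ∀ q, δ q ∈ I := tab_mem I fun i j =>
    I.mul_mem_right _ (I.mul_mem_right _ (Ideal.mem_span_singleton_self _))
  have htg : transform a g = a + δ := by
    have e : gᵀ * T * g = T + (t • (Mᵀ * T) + t • (T * M)) + (t ^ 2) • (Mᵀ * T * M) := by
      simp only [g, transpose_add, transpose_one, transpose_smul, Matrix.add_mul, Matrix.mul_add,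
        Matrix.one_mul, Matrix.mul_one, Matrix.smul_mul, Matrix.mul_smul, smul_add, smul_smul]
      rw [← sq]
      abel
    have e2 : tab (Mᵀ * T) = tab (Tᵀ * M) := by
      rw [← tab_transpose (Mᵀ * T), transpose_mul, transpose_transpose]
    rw [transform_eq, e, tab_add, tab_add, tab_triMat, tab_add, tab_smul, tab_smul, e2, ← smul_add,
      ← tab_add, ← Matrix.add_mul, add_comm Tᵀ T, triMat_add_transpose, ← hP, hPM, tab_zero,
      smul_zero, add_zero, hMTM, smul_smul]
  have hg : IsUnit g.det := by
    refine IsUnit.of_mul_eq_one (det (1 - t • M + t ^ 2 • (M * M))) ?_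
    rw [← det_mul]
    have : g * (1 - t • M + t ^ 2 • (M * M)) = 1 + t ^ 3 • (M * (M * M)) := by
      simp only [g, Matrix.add_mul, Matrix.mul_add, Matrix.mul_sub, Matrix.one_mul, Matrix.mul_one,
        Matrix.smul_mul, Matrix.mul_smul, smul_add, smul_smul]
      rw [← pow_succ t 2, ← sq t]
      abel
    rw [this, ht, zero_smul, add_zero, det_one]
  refine ⟨g, hg, fun q => by rw [htg, Pi.add_apply, add_sub_cancel_left]; exact hδI q,
    fun G hG hGa => hne ?_⟩
  let Y := g⁻¹ * (G - g)
  have hY : ∀ i j, Y i j ∈ I := mul_mem_right_matrix I hG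
  have hGY : g * (1 + Y) = G := by
    rw [Matrix.mul_add, Matrix.mul_one, ← Matrix.mul_assoc, mul_nonsing_inv _ hg, Matrix.one_mul,
      add_sub_cancel]
  rw [← hGY, transform_mul, htg, transform_one_add I hI _ hY, polarMat_add_mul I hI hδI hY,
    add_assoc, add_eq_left, ← tab_add] at hGa
  have h0 : t ^ 2 * qr * d = 0 := by
    have e := trace_symm_tab (adjugate_symm a) ((t ^ 2 * qr) • Matrix.single p p 1 + P * Y)
    rw [hGa, show triMat (0 : Sym2 (Fin n) → A) = 0 by ext i j; simp [triMat], Matrix.mul_zero,
      trace_zero, ← hP, ← hD, Matrix.mul_add, trace_add, ← Matrix.mul_assoc,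
      show D * P = 0 by rw [hD, hP, adjugate_mul_odd hn, h2, zero_mul, zero_smul],
      Matrix.zero_mul, trace_zero, add_zero, Matrix.mul_smul, trace_smul, smul_eq_mul,
      Matrix.trace_mul_single] at e
    simpa [d, hd'] using e.symm
  have hdq : qr * d = d ^ 2 * hd a := by
    have hq : qr * d = d ^ 2 * (D * T).trace := by
      simp only [qr, Matrix.mul_apply, Matrix.trace, Matrix.diag, Finset.sum_mul, Finset.mul_sum]
      refine Finset.sum_congr rfl fun x _ => Finset.sum_congr rfl fun y _ => ?_
      obtain ⟨c, hc⟩ := exists_minor hn a p p x y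
      rw [← hP, ← hD, ← hd', h2, zero_mul] at hc
      linear_combination -(T y x) * hc
    rw [hq, hD, hP, trace_adjugate_triMat hn]
    obtain ⟨m, rfl⟩ := hn
    simp [h2]
  rw [← hdq, ← mul_assoc]
  exact h0

end Solve

end GrothLib.QuadTable
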